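import Groth.Agent.HeightOneLib.Unip
import Groth.Agent.TakeuchiLib.Kernels
import Groth.Agent.TakeuchiLib.Main
import Groth.Agent.ComodLib.Push
import Mathlib.FieldTheory.IsAlgClosed.Basic

/-!
# The Frobenius subalgebra and unipotence of connected groups with nilpotent Lie algebra
-/

universe u

set_option autoImplicit false
set_option backward.isDefEq.respectTransparency false
set_option backward.isDefEq.respectTransparency.types false

open TensorProduct

namespace Groth.Agent.HeightOneLib

open ComodLib (actF lieOp aug slice)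
open LieHopf (dlin conv convPow Lie)

variable {k : Type u} [Field k] {A : Type u} [CommRing A] [HopfAlgebra k A]

/-- The Lie algebra is nilpotent for the convolution product. -/
def Nil (k A : Type u) [Field k] [CommRing A] [HopfAlgebra k A] : Prop :=
  ∀ D : Lie k A, ∃ n : ℕ, convPow (dlin D) n = 0

theorem conv_zero_left (g : A →ₗ[k] k) : conv (0 : A →ₗ[k] k) g = 0 := by
  simp [conv, TensorProduct.map_zero_left]

theorem convPow_eq_zero_of_le (f : A →ₗ[k] k) {m n : ℕ} (h : m ≤ n) (hm : convPow f m = 0) : convPow f n = 0 := by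
  induction h with
  | refl => exact hm
  | step _ ih => rw [convPow, ih, conv_zero_left]

theorem conv_comp {B : Type u} [CommRing B] [HopfAlgebra k B] (π : A →ₐc[k] B) (f g : B →ₗ[k] k) :
    conv (f ∘ₗ (π : A →ₗ[k] B)) (g ∘ₗ (π : A →ₗ[k] B)) = conv f g ∘ₗ (π : A →ₗ[k] B) := by
  ext a
  simp only [conv, LinearMap.comp_apply]
  rw [show CoalgebraStruct.comul ((π : A →ₗ[k] B) a) = TensorProduct.map (π : A →ₗ[k] B) (π : A →ₗ[k] B)
      (CoalgebraStruct.comul a) from (CoalgHomClass.map_comp_comul_apply π a).symm]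
  induction CoalgebraStruct.comul (R := k) a using TensorProduct.induction_on with
  | zero => simp
  | tmul x y => simp
  | add x y hx hy => simp only [map_add, hx, hy]

theorem convPow_comp {B : Type u} [CommRing B] [HopfAlgebra k B] (π : A →ₐc[k] B) (f : B →ₗ[k] k) (n : ℕ) :
    convPow (f ∘ₗ (π : A →ₗ[k] B)) n = convPow f n ∘ₗ (π : A →ₗ[k] B) := by
  induction n with
  | zero => exact LinearMap.ext fun a => (CoalgHomClass.counit_comp_apply π a).symm
  | succ n ih => rw [convPow, convPow, ih, conv_comp]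

/-- Derivations pull back. -/
noncomputable def lieComap {B : Type u} [CommRing B] [HopfAlgebra k B] (π : A →ₐc[k] B) (D : Lie k B) : Lie k A :=
  mkLie (dlin D ∘ₗ (π : A →ₗ[k] B)) fun a b => by
    show dlin D ((π : A →ₐ[k] B) (a * b)) = _
    rw [map_mul, LieHopf.dlin_mul]
    exact congrArg₂ (· + ·) (congrArg (· * _) (CoalgHomClass.counit_comp_apply π a))
      (congrArg (· * _) (CoalgHomClass.counit_comp_apply π b))

theorem nil_of_surjective {B : Type u} [CommRing B] [HopfAlgebra k B] (π : A →ₐc[k] B) (hπ : Function.Surjective π)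
    (h : Nil k A) : Nil k B := by
  intro D
  obtain ⟨n, hn⟩ := h (lieComap π D)
  refine ⟨n, LinearMap.ext fun b => ?_⟩
  obtain ⟨a, rfl⟩ := hπ b
  rw [show dlin (lieComap π D) = dlin D ∘ₗ (π : A →ₗ[k] B) from rfl, convPow_comp] at hn
  exact LinearMap.congr_fun hn a

variable (p : ℕ) [Fact p.Prime] [CharP k p]

theorem add_pow_alg (k : Type u) [Field k] [CharP k p] {R : Type u} [CommRing R] [Algebra k R] (x y : R) :
    (x + y) ^ p = x ^ p + y ^ p := by
  have h0 : (p : R) = 0 := by rw [← map_natCast (algebraMap k R), CharP.cast_eq_zero, map_zero]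
  rw [add_pow_prime_eq (Fact.out : p.Prime), h0]
  simp

variable (k A) in
/-- The subalgebra generated by the `p`-th powers. -/
noncomputable def frobAlg : Subalgebra k A := Algebra.adjoin k (Set.range fun a => a ^ p)

theorem pow_mem_frobAlg (a : A) : a ^ p ∈ frobAlg k A p := Algebra.subset_adjoin ⟨a, rfl⟩

theorem isHopf_frobAlg : SGA3.IsHopfSubalgebra k A (frobAlg k A p) := by
  refine ⟨fun b hb => ?_, fun b hb => ?_⟩
  · let R := (Algebra.TensorProduct.map (frobAlg k A p).val (frobAlg k A p).val).range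
    suffices h : frobAlg k A p ≤ R.comap (Bialgebra.comulAlgHom k A) by
      obtain ⟨t, ht⟩ := h hb
      exact ⟨t, ht⟩
    refine Algebra.adjoin_le ?_
    rintro _ ⟨a, rfl⟩
    show Bialgebra.comulAlgHom k A (a ^ p) ∈ R
    rw [map_pow]
    induction Bialgebra.comulAlgHom k A a using TensorProduct.induction_on with
    | zero => rw [zero_pow (Fact.out : p.Prime).ne_zero]; exact R.zero_mem
    | tmul x y => exact ⟨⟨_, pow_mem_frobAlg p x⟩ ⊗ₜ ⟨_, pow_mem_frobAlg p y⟩, by simp⟩
    | add x y hx hy => rw [add_pow_alg p k]; exact R.add_mem hx hy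
  · refine (Algebra.adjoin_le (S := (frobAlg k A p).comap (HopfAlgebra.antipodeAlgHom k A)) ?_ :
      frobAlg k A p ≤ _) hb
    rintro _ ⟨a, rfl⟩
    show HopfAlgebra.antipodeAlgHom k A (a ^ p) ∈ frobAlg k A p
    rw [map_pow]
    exact pow_mem_frobAlg p _

noncomputable instance hopfFrobAlg : HopfAlgebra k (frobAlg k A p) :=
  GrpSchLib.SubHopf.hopf (frobAlg k A p) (isHopf_frobAlg p)

variable (k A) in
/-- The inclusion of the Frobenius subalgebra. -/
noncomputable def frobIncl : frobAlg k A p →ₐc[k] A :=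
  BialgHom.ofAlgHom (frobAlg k A p).val rfl
    (AlgHom.ext fun c => GrpSchLib.SubHopf.map_comulRes (frobAlg k A p) (isHopf_frobAlg p) c)

theorem frobIncl_injective : Function.Injective (frobIncl k A p) := Subtype.val_injective

instance finiteType_frobAlg [hft : Algebra.FiniteType k A] : Algebra.FiniteType k (frobAlg k A p) := by
  classical
  obtain ⟨s, hs⟩ := hft.out
  refine (Subalgebra.fg_iff_finiteType _).mp ⟨s.image (· ^ p), le_antisymm ?_ ?_⟩
  · refine Algebra.adjoin_le ?_
    intro x hx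
    obtain ⟨a, -, rfl⟩ := Finset.mem_image.mp hx
    exact pow_mem_frobAlg p a
  · refine Algebra.adjoin_le ?_
    rintro _ ⟨a, rfl⟩
    have ha : a ∈ Algebra.adjoin k (s : Set A) := hs ▸ Algebra.mem_top
    induction ha using Algebra.adjoin_induction with
    | mem x hx => exact Algebra.subset_adjoin (Finset.mem_image_of_mem _ hx)
    | algebraMap c =>
      show algebraMap k A c ^ p ∈ _
      rw [← map_pow]; exact Subalgebra.algebraMap_mem _ _
    | add x y _ _ hx hy => show (x + y) ^ p ∈ _; rw [add_pow_alg p k]; exact Subalgebra.add_mem _ hx hy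
    | mul x y _ _ hx hy => show (x * y) ^ p ∈ _; rw [mul_pow]; exact Subalgebra.mul_mem _ hx hy

variable (k A) in
/-- The ideal of the Frobenius kernel. -/
noncomputable def frobIdeal : Ideal A :=
  Ideal.map (frobIncl k A p : frobAlg k A p →+* A) (RingHom.ker (Bialgebra.counitAlgHom k (frobAlg k A p)))

instance : (frobIdeal k A p).IsHopfIdeal k := TakeuchiLib.isHopfIdeal_map (frobIncl k A p)

theorem pow_mem_frobIdeal {a : A} (ha : a ∈ aug k A) : a ^ p ∈ frobIdeal k A p := by
  refine Ideal.mem_map_of_mem (frobIncl k A p : frobAlg k A p →+* A) (x := ⟨a ^ p, pow_mem_frobAlg p a⟩) ?_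
  show Bialgebra.counitAlgHom k A (a ^ p) = 0
  rw [map_pow, RingHom.mem_ker.mp ha, zero_pow (Fact.out : p.Prime).ne_zero]

variable [Algebra.FiniteType k A]

/-- The Frobenius kernel is unipotent if the Lie algebra is nilpotent. -/
theorem isUnipotent_frobKer (h : Nil k A) : HopfRep.IsUnipotent k (A ⧸ frobIdeal k A p) := by
  refine isUnipotent_heightOne p (fun t ht => ?_)
    (nil_of_surjective (Bialgebra.Quotient.mkBialgHom (R := k) (frobIdeal k A p)) Ideal.Quotient.mk_surjective h)
  obtain ⟨a, rfl⟩ := Ideal.Quotient.mk_surjective t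
  rw [← map_pow]
  refine Ideal.Quotient.eq_zero_iff_mem.mpr (pow_mem_frobIdeal p (RingHom.mem_ker.mpr ?_))
  exact (CoalgHomClass.counit_comp_apply (Bialgebra.Quotient.mkBialgHom (R := k) (frobIdeal k A p)) a).symm.trans
    (ht : Bialgebra.counitAlgHom k (A ⧸ frobIdeal k A p) (Ideal.Quotient.mk _ a) = 0)

/-- A nonzero subrepresentation meets the Frobenius subalgebra. -/
theorem exists_mem_frobAlg (h : HopfRep.IsUnipotent k (A ⧸ frobIdeal k A p)) (U : Submodule k A) [Module.Finite k U]
    (hU : HopfRep.IsSubcomod (k := k) (A := A) U) (hU0 : U ≠ ⊥) :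
    ∃ u ∈ U, u ≠ 0 ∧ u ∈ frobAlg k A p := by
  let π := Bialgebra.Quotient.mkBialgHom (R := k) (frobIdeal k A p)
  let cU : HopfRep.Comod k A U := ComodSub.Comod.restr (HopfRep.Comod.regular k A) U hU
  letI cT : HopfRep.Comod k (A ⧸ frobIdeal k A p) U := ComodLib.pushComod π.toCoalgHom cU
  haveI : Nontrivial U := Submodule.nontrivial_iff_ne_bot.mpr hU0
  obtain ⟨v, hv, hv0⟩ := (Submodule.ne_bot_iff _).mp (h U inferInstance inferInstance)
  refine ⟨v.1, v.2, fun e => hv0 (Subtype.ext e), ?_⟩
  have h1 : LinearMap.lTensor A (π : A →ₗ[k] A ⧸ frobIdeal k A p) (Coalgebra.comul (R := k) v.1 - v.1 ⊗ₜ[k] 1) = 0 := by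
    rw [← show U.subtype.rTensor A (cU.coact v) = Coalgebra.comul (R := k) v.1 from
      ComodSub.restr_coact_coe (HopfRep.Comod.regular k A) U hU v, map_sub, sub_eq_zero, ← LinearMap.comp_apply,
      LinearMap.lTensor_comp_rTensor, ← LinearMap.rTensor_comp_lTensor, LinearMap.comp_apply,
      show LinearMap.lTensor U (π : A →ₗ[k] A ⧸ frobIdeal k A p) (cU.coact v) = v ⊗ₜ[k] (1 : A ⧸ frobIdeal k A p)
        from hv, LinearMap.rTensor_tmul, LinearMap.lTensor_tmul]
    rfl
  have hex : Function.Exact ((frobIdeal k A p).restrictScalars k).subtype (π : A →ₗ[k] A ⧸ frobIdeal k A p) :=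
    LinearMap.exact_iff.mpr (by
      rw [Submodule.range_subtype]
      ext a
      exact Ideal.Quotient.eq_zero_iff_mem)
  obtain ⟨c, hc⟩ := TakeuchiLib.mem_range_of_invariant (frobIncl k A p) (frobIncl_injective p) v.1
    ((lTensor_exact A hex Ideal.Quotient.mk_surjective _).mp h1)
  rw [← hc]
  exact c.2

section Perfect

variable [IsAlgClosed k]

omit [Algebra.FiniteType k A] in
theorem exists_root_of_mem {c : A} (hc : c ∈ frobAlg k A p) : ∃ b : A, b ^ p = c := by
  have hp0 : 0 < p := (Fact.out : p.Prime).pos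
  induction hc using Algebra.adjoin_induction with
  | mem x hx => exact hx
  | algebraMap r =>
    obtain ⟨s, hs⟩ := IsAlgClosed.exists_pow_nat_eq r hp0
    exact ⟨algebraMap k A s, by rw [← map_pow, hs]⟩
  | add x y _ _ hx hy =>
    obtain ⟨a, rfl⟩ := hx
    obtain ⟨b, rfl⟩ := hy
    exact ⟨a + b, add_pow_alg p k a b⟩
  | mul x y _ _ hx hy =>
    obtain ⟨a, rfl⟩ := hx
    obtain ⟨b, rfl⟩ := hy
    exact ⟨a * b, mul_pow a b p⟩

omit [Algebra.FiniteType k A] in
theorem conv_pow {f g : A →ₗ[k] k} {f' g' : frobAlg k A p →ₗ[k] k}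
    (hf : ∀ a, f a ^ p = f' ⟨a ^ p, pow_mem_frobAlg p a⟩) (hg : ∀ a, g a ^ p = g' ⟨a ^ p, pow_mem_frobAlg p a⟩)
    (a : A) : conv f g a ^ p = conv f' g' ⟨a ^ p, pow_mem_frobAlg p a⟩ := by
  have key : ∀ z : A ⊗[k] A, ∃ w, Algebra.TensorProduct.map (frobAlg k A p).val (frobAlg k A p).val w = z ^ p ∧
      LinearMap.mul' k k (TensorProduct.map f' g' w) = LinearMap.mul' k k (TensorProduct.map f g z) ^ p := by
    intro z
    induction z using TensorProduct.induction_on with
    | zero => exact ⟨0, by simp [zero_pow (Fact.out : p.Prime).ne_zero], by simp [zero_pow (Fact.out : p.Prime).ne_zero]⟩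
    | tmul x y => exact ⟨⟨_, pow_mem_frobAlg p x⟩ ⊗ₜ ⟨_, pow_mem_frobAlg p y⟩, by simp, by simp [mul_pow, hf, hg]⟩
    | add x y hx hy =>
      obtain ⟨w, hw, hw'⟩ := hx
      obtain ⟨v, hv, hv'⟩ := hy
      exact ⟨w + v, by rw [map_add, hw, hv, add_pow_alg p k], by rw [map_add, map_add, hw', hv', map_add, map_add, add_pow_alg p k]⟩
  obtain ⟨w, hw, hw'⟩ := key (Bialgebra.comulAlgHom k A a)
  have h1 : CoalgebraStruct.comul (R := k) (⟨a ^ p, pow_mem_frobAlg p a⟩ : frobAlg k A p) = w := by
    refine GrpSchLib.SubHopf.map_val_injective (frobAlg k A p).val (frobAlg k A p).val Subtype.val_injective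
      Subtype.val_injective ?_
    rw [hw, ← map_pow]
    exact GrpSchLib.SubHopf.map_comulRes (frobAlg k A p) (isHopf_frobAlg p) ⟨a ^ p, pow_mem_frobAlg p a⟩
  simp only [conv, LinearMap.comp_apply]
  rw [h1, hw']
  rfl

omit [Algebra.FiniteType k A] in
/-- The Frobenius twist keeps nilpotent Lie algebras. -/
theorem nil_frobAlg (h : Nil k A) : Nil k (frobAlg k A p) := by
  intro D
  haveI : ExpChar k p := ExpChar.prime Fact.out
  let r := (frobeniusEquiv k p).symm
  have hr : ∀ x : k, r x ^ p = x := frobenius_apply_frobeniusEquiv_symm k p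
  have hinj : ∀ x y : k, x ^ p = y ^ p → x = y := fun x y e => frobenius_inj k p e
  let F : A → frobAlg k A p := fun a => ⟨a ^ p, pow_mem_frobAlg p a⟩
  let e : A →ₗ[k] k :=
    { toFun := fun a => r (dlin D (F a))
      map_add' := fun a b => by
        have hF : F (a + b) = F a + F b := Subtype.ext (add_pow_alg p k a b)
        rw [hF, map_add, map_add]
      map_smul' := fun c a => hinj _ _ (by
        have hF : F (c • a) = c ^ p • F a := Subtype.ext (smul_pow c a p)
        rw [hF, map_smul, hr, RingHom.id_apply, smul_eq_mul, smul_eq_mul, mul_pow, hr]) }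
  have he : ∀ a b, e (a * b) = Bialgebra.counitAlgHom k A a * e b + Bialgebra.counitAlgHom k A b * e a := by
    intro a b
    refine hinj _ _ ?_
    have hF : F (a * b) = F a * F b := Subtype.ext (mul_pow a b p)
    have hεF : ∀ x, Bialgebra.counitAlgHom k (frobAlg k A p) (F x) = Bialgebra.counitAlgHom k A x ^ p :=
      fun x => map_pow (Bialgebra.counitAlgHom k A) x p
    show r _ ^ p = (_ * r _ + _ * r _) ^ p
    rw [hr, hF, LieHopf.dlin_mul, add_pow_alg p k, mul_pow, mul_pow, hr, hr, hεF, hεF]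
  obtain ⟨n, hn⟩ := h (mkLie e he)
  rw [dlin_mkLie] at hn
  have hpow : ∀ m a, convPow e m a ^ p = convPow (dlin D) m (F a) := by
    intro m
    induction m with
    | zero => intro a; exact (map_pow (Bialgebra.counitAlgHom k A) a p).symm
    | succ m ih => intro a; exact conv_pow p ih (fun x => hr _) a
  refine ⟨n, LinearMap.ext fun c => ?_⟩
  obtain ⟨b, hb⟩ := exists_root_of_mem p c.2
  rw [show c = F b from Subtype.ext hb.symm, ← hpow, hn, LinearMap.zero_apply, zero_pow (Fact.out : p.Prime).ne_zero]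
  rfl

end Perfect

end Groth.Agent.HeightOneLib
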