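import Groth.Agent.S2968
import Groth.Agent.ComodLib.LieKill
import Mathlib.Algebra.Lie.Engel
import Mathlib.Algebra.Lie.OfAssociative

/-!
# Height one groups with nilpotent Lie algebra are unipotent
-/

universe u

set_option autoImplicit false
set_option backward.isDefEq.respectTransparency false
set_option backward.isDefEq.respectTransparency.types false

open TensorProduct

namespace Groth.Agent.HeightOneLib

attribute [local instance 100] LieRing.ofAssociativeRing

open ComodLib (actF lieOp aug slice)
open LieHopf (dlin conv convPow Lie)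

variable {k : Type u} [Field k] {A : Type u} [CommRing A] [HopfAlgebra k A]

local notation "ε" => Bialgebra.counitAlgHom k A

/-- An ε-derivation from a linear form. -/
noncomputable def mkLie (f : A →ₗ[k] k) (hf : ∀ a b, f (a * b) = ε a * f b + ε b * f a) : Lie k A :=
  Derivation.mk'
    { toFun := fun a => (f a : k)
      map_add' := fun a a' => f.map_add a a'
      map_smul' := fun c a => f.map_smul c a }
    (fun a b => hf a b)

theorem dlin_mkLie (f : A →ₗ[k] k) (hf : ∀ a b, f (a * b) = ε a * f b + ε b * f a) : dlin (mkLie f hf) = f := rfl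

theorem dlin_add (D E : Lie k A) : dlin (D + E) = dlin D + dlin E := rfl

theorem dlin_smul (c : k) (D : Lie k A) : dlin (c • D) = c • dlin D := rfl

theorem conv_counit_left (f : A →ₗ[k] k) : conv (ε).toLinearMap f = f := by
  ext a
  simp only [conv, LinearMap.comp_apply]
  have h : ∀ z : A ⊗[k] A, LinearMap.mul' k k (TensorProduct.map (ε).toLinearMap f z) =
      f (TensorProduct.lid k A ((Coalgebra.counit (R := k) (A := A)).rTensor A z)) := fun z => by
    induction z using TensorProduct.induction_on with
    | zero => simp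
    | add p q hp hq => simp only [map_add, hp, hq]
    | tmul x y => simp
  rw [h, Coalgebra.rTensor_counit_comul]
  simp

theorem bracket_leibniz (D E : Lie k A) (a b : A) :
    (conv (dlin D) (dlin E) - conv (dlin E) (dlin D)) (a * b) =
      ε a * (conv (dlin D) (dlin E) - conv (dlin E) (dlin D)) b +
      ε b * (conv (dlin D) (dlin E) - conv (dlin E) (dlin D)) a := by
  let l : Lie k A → Bool → (A →ₗ[k] k) := fun X i => if i then dlin X else (ε).toLinearMap
  let r : Lie k A → Bool → (A →ₗ[k] k) := fun X i => if i then (ε).toLinearMap else dlin X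
  have hl : ∀ (X : Lie k A) x y, dlin X (x * y) = ∑ i ∈ Finset.univ, l X i x * r X i y := fun X x y => by
    simp [l, r, LieHopf.dlin_mul]; ring
  have hε : conv (ε).toLinearMap (ε).toLinearMap = (ε).toLinearMap := conv_counit_left _
  simp only [LinearMap.sub_apply]
  rw [S2968.conv_mul _ _ _ (l D) (r D) _ (l E) (r E) (hl D) (hl E) a b,
    S2968.conv_mul _ _ _ (l E) (r E) _ (l D) (r D) (hl E) (hl D) a b]
  have c1 : ∀ f : A →ₗ[k] k, conv (CoalgebraStruct.counit (R := k) (A := A)) f = f := conv_counit_left
  have c2 : ∀ f : A →ₗ[k] k, conv f (CoalgebraStruct.counit (R := k) (A := A)) = f := S2968.conv_counit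
  simp [l, r, c1, c2]
  ring

/-- The bracket of ε-derivations. -/
noncomputable def bracket (D E : Lie k A) : Lie k A := mkLie _ (bracket_leibniz D E)

theorem actF_conv {V : Type u} [AddCommGroup V] [Module k V] [HopfRep.Comod k A V] (f g : A →ₗ[k] k) :
    (actF (conv f g) : V →ₗ[k] V) = actF f * actF g :=
  LinearMap.ext fun v => ComodLib.actF_convMul (WithConv.toConv f) (WithConv.toConv g) v

theorem actF_convPow {V : Type u} [AddCommGroup V] [Module k V] [HopfRep.Comod k A V] (f : A →ₗ[k] k) (n : ℕ) :
    (actF (convPow f n) : V →ₗ[k] V) = actF f ^ n := by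
  induction n with
  | zero => exact LinearMap.ext fun v => ComodLib.actF_counit v
  | succ n ih => rw [pow_succ, ← ih, ← actF_conv]; rfl

/-- The image of the Lie algebra in the endomorphisms of a representation. -/
noncomputable def rep (k A : Type u) [Field k] [CommRing A] [HopfAlgebra k A] (V : Type u) [AddCommGroup V]
    [Module k V] [HopfRep.Comod k A V] : LieSubalgebra k (Module.End k V) where
  carrier := Set.range fun D : Lie k A => actF (dlin D)
  add_mem' := by
    rintro _ _ ⟨D, rfl⟩ ⟨E, rfl⟩
    exact ⟨D + E, by simp only [dlin_add, ComodLib.actF_add]⟩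
  zero_mem' := ⟨0, ComodLib.actF_zero⟩
  smul_mem' := by
    rintro c _ ⟨D, rfl⟩
    exact ⟨c • D, by simp only [dlin_smul, ComodLib.actF_smul]⟩
  lie_mem' := by
    rintro _ _ ⟨D, rfl⟩ ⟨E, rfl⟩
    refine ⟨bracket D E, ?_⟩
    show actF (conv (dlin D) (dlin E) - conv (dlin E) (dlin D)) = _
    rw [sub_eq_add_neg, ← neg_one_smul k, ComodLib.actF_add, ComodLib.actF_smul, actF_conv, actF_conv,
      neg_one_smul, ← sub_eq_add_neg]
    rfl

/-- Engel: a nonzero vector killed by the Lie algebra. -/
theorem exists_killed (hnil : ∀ D : Lie k A, ∃ n : ℕ, convPow (dlin D) n = 0)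
    (V : Type u) [AddCommGroup V] [Module k V] [HopfRep.Comod k A V] [Module.Finite k V] [Nontrivial V] :
    ∃ v : V, v ≠ 0 ∧ ∀ D : Lie k A, actF (dlin D) v = 0 := by
  haveI : LieModule.IsNilpotent (rep k A V) V := (LieModule.isNilpotent_iff_forall' (R := k)).mpr (by
    rintro ⟨_, D, rfl⟩
    obtain ⟨n, hn⟩ := hnil D
    refine ⟨n, ?_⟩
    have h : LieModule.toEnd k (rep k A V) V ⟨actF (dlin D), D, rfl⟩ = actF (dlin D) := rfl
    rw [h, ← actF_convPow, hn, ComodLib.actF_zero])
  haveI := LieModule.nontrivial_max_triv_of_isNilpotent k (rep k A V) V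
  obtain ⟨⟨v, hv⟩, hv0⟩ := exists_ne (0 : LieModule.maxTrivSubmodule k (rep k A V) V)
  exact ⟨v, fun h => hv0 (Subtype.ext h), fun D => hv ⟨_, D, rfl⟩⟩

end Groth.Agent.HeightOneLib
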