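import Groth.Agent.HeightOneLib.Frob
import Groth.Agent.TakeuchiLib.UnitsConst
import Mathlib.RingTheory.Filtration
import Mathlib.RingTheory.Nullstellensatz
import Mathlib.RingTheory.Jacobson.Ring

/-!
# Connected groups with nilpotent Lie algebra are unipotent
-/

universe u

set_option autoImplicit false
set_option backward.isDefEq.respectTransparency false
set_option backward.isDefEq.respectTransparency.types false

open TensorProduct

namespace Groth.Agent.HeightOneLib

open ComodLib (actF lieOp aug slice)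
open LieHopf (dlin conv convPow Lie)

section Closed

variable {k : Type u} [Field k] [IsAlgClosed k] (p : ℕ) [Fact p.Prime] [CharP k p]

/-- A nonzero subrepresentation contains nonzero iterated `p`-th powers of every order. -/
theorem exists_iterated_root (n : ℕ) : ∀ (A : Type u) [CommRing A] [HopfAlgebra k A] [Algebra.FiniteType k A],
    Nil k A → ∀ (U : Submodule k A), Module.Finite k U → HopfRep.IsSubcomod (k := k) (A := A) U → U ≠ ⊥ →
      ∃ u ∈ U, u ≠ 0 ∧ ∃ b : A, b ^ p ^ n = u := by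
  induction n with
  | zero =>
    intro A _ _ _ _ U _ _ hU0
    obtain ⟨u, hu, hu0⟩ := Submodule.exists_mem_ne_zero_of_ne_bot hU0
    exact ⟨u, hu, hu0, u, by simp⟩
  | succ n ih =>
    intro A _ _ _ hA U hUf hU hU0
    let ψ := frobIncl k A p
    let U' : Submodule k (frobAlg k A p) := U.comap (ψ : frobAlg k A p →ₗ[k] A)
    have hU'0 : U' ≠ ⊥ := by
      obtain ⟨u, hu, hu0, huC⟩ := exists_mem_frobAlg p (isUnipotent_frobKer p hA) U hU hU0
      exact (Submodule.ne_bot_iff _).mpr ⟨⟨u, huC⟩, hu, fun e => hu0 (congrArg Subtype.val e)⟩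
    haveI : Module.Finite k U' := by
      refine Module.Finite.of_injective
        (((ψ : frobAlg k A p →ₗ[k] A).comp U'.subtype).codRestrict U fun c => c.2) fun x y e => ?_
      have h := congrArg Subtype.val e
      exact Subtype.ext (frobIncl_injective p h)
    have hU' : HopfRep.IsSubcomod (k := k) (A := frobAlg k A p) U' := by
      refine ComodLib.isSubcomod_iff_actF.mpr fun φ c hc => ?_
      obtain ⟨φ', hφ'⟩ := LinearMap.dualMap_surjective_of_injective (f := (ψ : frobAlg k A p →ₗ[k] A))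
        (frobIncl_injective p) φ
      show ψ (slice φ (Coalgebra.comul (R := k) c)) ∈ U
      have h1 : ψ (slice φ (Coalgebra.comul (R := k) c)) = slice φ' (Coalgebra.comul (R := k) (ψ c)) := by
        rw [← CoalgHomClass.map_comp_comul_apply ψ c, ← hφ']
        induction Coalgebra.comul (R := k) c using TensorProduct.induction_on with
        | zero => simp
        | tmul x y => simp [LinearMap.dualMap_apply]
        | add x y hx hy => simp only [map_add, hx, hy]
      rw [h1]
      exact ComodLib.subcomod_actF_mem hU φ' hc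
    obtain ⟨u, hu, hu0, b, hb⟩ := ih (frobAlg k A p) (nil_frobAlg p hA) U' inferInstance hU' hU'0
    obtain ⟨a, ha⟩ := exists_root_of_mem p b.2
    refine ⟨ψ u, hu, fun e => hu0 (frobIncl_injective p (e.trans (map_zero ψ).symm)), a, ?_⟩
    rw [pow_succ', pow_mul, ha, ← hb]
    rfl

variable {A : Type u} [CommRing A] [HopfAlgebra k A] [Algebra.FiniteType k A]

theorem eq_algebraMap_of_roots (hconn : ∀ e : A, IsIdempotentElem e → e = 0 ∨ e = 1) (w : A)
    (hw : ∀ n, ∃ b : A, b ^ p ^ n = w) : w = algebraMap k A (Bialgebra.counitAlgHom k A w) := by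
  haveI : IsNoetherianRing A := Algebra.FiniteType.isNoetherianRing k A
  haveI : IsJacobsonRing A := isJacobsonRing_of_finiteType (A := k)
  haveI : Nontrivial A := (Bialgebra.counitAlgHom k A).toRingHom.domain_nontrivial
  haveI := TakeuchiLib.connectedSpace_of_noIdem A hconn
  let I : k → Ideal A := fun c => (Submodule.span A {w - algebraMap k A c}).annihilator
  have hI : ∀ {c : k} {r : A}, r ∈ I c ↔ r * (w - algebraMap k A c) = 0 := fun {c r} => by
    show r ∈ (Submodule.span A {w - algebraMap k A c}).annihilator ↔ _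
    rw [Submodule.mem_annihilator_span_singleton, smul_eq_mul]
  let U : k → Set (PrimeSpectrum A) := fun c => (PrimeSpectrum.zeroLocus (I c : Set A))ᶜ
  have hop : ∀ c, IsOpen (U c) := fun c => (PrimeSpectrum.isClosed_zeroLocus _).isOpen_compl
  have hdisj : ∀ c c' P, P ∈ U c → P ∈ U c' → c = c' := by
    intro c c' P hc hc'
    by_contra hne
    obtain ⟨r, hr, hrP⟩ := Set.not_subset.mp hc
    obtain ⟨r', hr', hrP'⟩ := Set.not_subset.mp hc'
    have h0 : r * r' = 0 := by
      have hu : IsUnit (algebraMap k A (c' - c)) := (IsUnit.mk0 _ (sub_ne_zero.mpr (Ne.symm hne))).map _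
      refine hu.mul_left_eq_zero.mp ?_
      have h1 := hI.mp hr
      have h2 := hI.mp hr'
      rw [map_sub]
      linear_combination r' * h1 - r * h2
    rcases P.isPrime.mem_or_mem (h0 ▸ P.asIdeal.zero_mem : r * r' ∈ P.asIdeal) with h | h
    exacts [hrP h, hrP' h]
  have hcov : ∀ P : PrimeSpectrum A, ∃ c, P ∈ U c := by
    intro P
    obtain ⟨M, hM, hPM⟩ := Ideal.exists_le_maximal P.asIdeal P.isPrime.ne_top
    haveI : Algebra.FiniteType k (A ⧸ M) := .of_surjective (Ideal.Quotient.mkₐ k M) Ideal.Quotient.mk_surjective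
    letI := Ideal.Quotient.field M
    haveI : Module.Finite k (A ⧸ M) := finite_of_finite_type_of_isJacobsonRing k (A ⧸ M)
    obtain ⟨c, hc⟩ := (IsAlgClosed.algebraMap_bijective_of_isIntegral (k := k) (K := A ⧸ M)).2 (Ideal.Quotient.mk M w)
    refine ⟨c, Set.not_subset.mpr ?_⟩
    have hmem : w - algebraMap k A c ∈ (⨅ i : ℕ, M ^ i • ⊤ : Submodule A A) := by
      refine (Submodule.mem_iInf _).mpr fun i => ?_
      rw [smul_eq_mul, Ideal.mul_top]
      obtain ⟨b, hb⟩ := hw i
      obtain ⟨s, hs⟩ := IsAlgClosed.exists_pow_nat_eq c (pow_pos (Fact.out : p.Prime).pos i)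
      haveI : CharP A p := charP_of_injective_algebraMap (algebraMap k A).injective p
      have e : w - algebraMap k A c = (b - algebraMap k A s) ^ p ^ i := by
        rw [sub_pow_char_pow, hb, ← map_pow, hs]
      rw [e]
      refine Ideal.pow_le_pow_right (Nat.lt_pow_self (Fact.out : p.Prime).one_lt).le (Ideal.pow_mem_pow ?_ _)
      refine hM.isPrime.mem_of_pow_mem (p ^ i) ?_
      rw [← e, ← Ideal.Quotient.eq_zero_iff_mem, map_sub, ← hc, Ideal.Quotient.mk_algebraMap, sub_self]
    obtain ⟨r, hr⟩ := (Ideal.mem_iInf_smul_pow_eq_bot_iff M _).mp hmem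
    refine ⟨1 - r, hI.mpr ?_, fun h => ?_⟩
    · rw [sub_mul, one_mul, ← smul_eq_mul, hr, sub_self]
    · exact (Ideal.ne_top_iff_one M).mp hM.ne_top (by simpa using M.add_mem (hPM h) r.2)
  set c₀ := Bialgebra.counitAlgHom k A w with hc₀
  let P₀ : PrimeSpectrum A := ⟨aug k A, RingHom.ker_isPrime _⟩
  have hP₀ : P₀ ∈ U c₀ := by
    obtain ⟨c, hc⟩ := hcov P₀
    obtain ⟨r, hr, hrP⟩ := Set.not_subset.mp hc
    have h := congrArg (Bialgebra.counitAlgHom k A) (hI.mp hr)
    rw [map_mul, map_sub, AlgHom.commutes, map_zero, mul_eq_zero] at h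
    rcases h with h | h
    · exact absurd (RingHom.mem_ker.mpr h) hrP
    · rwa [show c₀ = c from sub_eq_zero.mp h]
  have hclopen : IsClopen (U c₀) := by
    refine ⟨⟨?_⟩, hop c₀⟩
    rw [show (U c₀)ᶜ = ⋃ c ∈ {c | c ≠ c₀}, U c from ?_]
    · exact isOpen_biUnion fun c _ => hop c
    ext P
    simp only [Set.mem_compl_iff, Set.mem_iUnion, Set.mem_setOf_eq]
    refine ⟨fun h => ?_, fun ⟨c, hne, hc⟩ h => hne (hdisj c c₀ P hc h)⟩
    obtain ⟨c, hc⟩ := hcov P
    exact ⟨c, fun e => h (e ▸ hc), hc⟩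
  have huniv : U c₀ = Set.univ := hclopen.eq_univ ⟨P₀, hP₀⟩
  have htop : I c₀ = ⊤ := by
    rw [← PrimeSpectrum.zeroLocus_empty_iff_eq_top]
    simpa [U] using huniv
  have := hI.mp (htop ▸ Submodule.mem_top : (1 : A) ∈ I c₀)
  rwa [one_mul, sub_eq_zero] at this

include p in
theorem isUnipotent_algClosed (hconn : ∀ e : A, IsIdempotentElem e → e = 0 ∨ e = 1) (hA : Nil k A) :
    HopfRep.IsUnipotent k A := by
  classical
  intro V _ _ _ _ _
  haveI : Nontrivial A := (Bialgebra.counitAlgHom k A).toRingHom.domain_nontrivial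
  obtain ⟨S, -, -, hS, hS0, hmin⟩ := ComodLib.exists_simple_le
    (ComodLib.isSubcomod_top (k := k) (C := A) (V := V)) top_ne_bot
  obtain ⟨s₀, hs₀, hs₀0⟩ := Submodule.exists_mem_ne_zero_of_ne_bot hS0
  obtain ⟨f, hf⟩ := Module.Projective.exists_dual_ne_zero k hs₀0
  let j : V →ₗ[k] A := TakeuchiLib.coeffMap f
  have hj : Hoch.IsComodHom A j := TakeuchiLib.isComodHom_coeffMap f
  let T : Submodule k A := S.map j
  have hT : HopfRep.IsSubcomod (k := k) (A := A) T := ComodLib.isSubcomod_map hj hS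
  have hjs : j s₀ ≠ 0 := fun h => hf (by rw [← TakeuchiLib.counit_coeffMap (A := A) f s₀]; exact (congrArg _ h).trans (map_zero _))
  have hT0 : T ≠ ⊥ := (Submodule.ne_bot_iff _).mpr ⟨j s₀, Submodule.mem_map_of_mem hs₀, hjs⟩
  let R : ℕ → Submodule k A := fun n =>
    { carrier := {a | ∃ b : A, b ^ p ^ n = a}
      add_mem' := by
        rintro _ _ ⟨a, rfl⟩ ⟨b, rfl⟩
        haveI : CharP A p := charP_of_injective_algebraMap (algebraMap k A).injective p
        exact ⟨a + b, add_pow_char_pow a b p n⟩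
      zero_mem' := ⟨0, zero_pow (pow_pos (Fact.out : p.Prime).pos n).ne'⟩
      smul_mem' := by
        rintro c _ ⟨b, rfl⟩
        obtain ⟨s, hs⟩ := IsAlgClosed.exists_pow_nat_eq c (pow_pos (Fact.out : p.Prime).pos n)
        exact ⟨s • b, by rw [smul_pow, hs]⟩ }
  have hanti : Antitone R := antitone_nat_of_succ_le fun n a ⟨b, hb⟩ => ⟨b ^ p, by rw [← pow_mul, ← pow_succ', hb]⟩
  let seq : ℕ → Submodule k T := fun n => (R n).comap T.subtype
  obtain ⟨N, hN⟩ := IsArtinian.monotone_stabilizes (R := k) (M := T)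
    ⟨fun n => OrderDual.toDual (seq n), fun m n h => Submodule.comap_mono (hanti h)⟩
  obtain ⟨w, hwT, hw0, hwN⟩ := exists_iterated_root p N A hA T inferInstance hT hT0
  have hw : ∀ n, ∃ b : A, b ^ p ^ n = w := by
    intro n
    have h : (⟨w, hwT⟩ : T) ∈ seq N := hwN
    rcases le_total n N with hn | hn
    · exact hanti hn hwN
    · rw [show seq N = seq n from hN n hn] at h
      exact h
  obtain ⟨v, hvS, hv⟩ := hwT
  have hwc := eq_algebraMap_of_roots (k := k) p hconn w hw
  have hinj : ∀ x ∈ S, j x = 0 → x = 0 := by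
    intro x hx hjx
    rcases hmin _ (ComodLib.isSubcomod_inf (ComodLib.isSubcomod_ker hj) hS) inf_le_right with h | h
    · exact (Submodule.mem_bot k).mp (h ▸ ⟨LinearMap.mem_ker.mpr hjx, hx⟩)
    · exact absurd (h.ge hs₀).1 hjs
  refine (Submodule.ne_bot_iff _).mpr ⟨v, ComodLib.ext_of_forall_slice_eq fun φ => ?_, fun e => hw0 (by rw [← hv, e, map_zero])⟩
  rw [ComodLib.slice_tmul, ← sub_eq_zero]
  refine hinj _ (S.sub_mem (ComodLib.subcomod_actF_mem hS φ hvS) (S.smul_mem _ hvS)) ?_
  rw [map_sub, map_smul, show slice φ (HopfRep.Comod.coact (k := k) (A := A) v) = actF φ v from rfl,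
    ComodLib.comodHom_actF hj φ v, hv, hwc, Algebra.algebraMap_eq_smul_one, map_smul]
  show _ • slice φ (Coalgebra.comul (R := k) (1 : A)) - _ = 0
  rw [Bialgebra.comul_one, Algebra.TensorProduct.one_def, ComodLib.slice_tmul, smul_comm, sub_self]

end Closed

section Descent

variable {k : Type u} [Field k] (p : ℕ) [Fact p.Prime] [CharP k p] {A : Type u} [CommRing A] [HopfAlgebra k A]
  [Algebra.FiniteType k A] (K : Type u) [Field K] [Algebra k K]

include p in
/-- Nilpotence of the Lie algebra is stable under extension of the field. -/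
theorem nil_baseChange (h : Nil k A) : Nil K (K ⊗[k] A) := by
  intro D
  haveI : CharP K p := charP_of_injective_algebraMap (algebraMap k K).injective p
  have hD : ∀ z ∈ frobIdeal k A p, dlin D ((1 : K) ⊗ₜ[k] z) = 0 := by
    intro z hz
    let incl : A →+* K ⊗[k] A := (Algebra.TensorProduct.includeRight : A →ₐ[k] K ⊗[k] A).toRingHom
    have key : ∀ a : A, Bialgebra.counitAlgHom k A a = 0 →
        Bialgebra.counitAlgHom K (K ⊗[k] A) (incl a) = 0 := fun a ha => by
      show Coalgebra.counit (R := K) ((1 : K) ⊗ₜ[k] a) = 0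
      simp [show Coalgebra.counit (R := k) a = 0 from ha]
    suffices hle : frobIdeal k A p ≤ (Ideal.span {x : K ⊗[k] A | ∃ u, Bialgebra.counitAlgHom K (K ⊗[k] A) u = 0 ∧ u ^ p = x}).comap incl by
      have hmem := hle hz
      rw [Ideal.mem_comap] at hmem
      refine (Submodule.span_induction (p := fun x _ => Bialgebra.counitAlgHom K (K ⊗[k] A) x = 0 ∧ dlin D x = 0)
        ?_ ⟨map_zero _, map_zero _⟩ (fun x y _ _ hx hy => ⟨by rw [map_add, hx.1, hy.1, add_zero],
          by rw [map_add, hx.2, hy.2, add_zero]⟩) (fun r x _ hx => ⟨by rw [smul_eq_mul, map_mul, hx.1, mul_zero],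
          by rw [smul_eq_mul, LieHopf.dlin_mul, hx.1, hx.2, mul_zero, zero_mul, add_zero]⟩) hmem).2
      rintro x ⟨u, hu, rfl⟩
      refine ⟨by rw [map_pow, hu, zero_pow (Fact.out : p.Prime).ne_zero], ?_⟩
      obtain ⟨q, hq⟩ := Nat.exists_eq_succ_of_ne_zero (Fact.out : p.Prime).ne_zero
      have hqe : q ≠ 0 := by rintro rfl; exact (Fact.out : p.Prime).one_lt.ne' hq
      rw [hq, pow_succ, LieHopf.dlin_mul, hu, map_pow, hu, zero_pow hqe, zero_mul, zero_mul, add_zero]
    refine Ideal.map_le_iff_le_comap.mpr fun c hc => ?_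
    obtain ⟨c, hcm⟩ := c
    have hc0 : Bialgebra.counitAlgHom k A c = 0 := hc
    let Jd : Ideal (K ⊗[k] A) := Ideal.span {x | ∃ u, Bialgebra.counitAlgHom K (K ⊗[k] A) u = 0 ∧ u ^ p = x}
    suffices hs : incl (c - algebraMap k A (Bialgebra.counitAlgHom k A c)) ∈ Jd by
      rw [hc0, map_zero, sub_zero] at hs
      exact hs
    clear hc hc0
    let ev : A →ₐ[k] (K ⊗[k] A) ⧸ Jd :=
      (Ideal.Quotient.mkₐ k Jd).comp (Algebra.TensorProduct.includeRight : A →ₐ[k] K ⊗[k] A)
    have hev : frobAlg k A p ≤ AlgHom.equalizer ev ((Algebra.ofId k _).comp (Bialgebra.counitAlgHom k A)) := by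
      refine Algebra.adjoin_le ?_
      rintro _ ⟨a, rfl⟩
      show ev (a ^ p) = algebraMap k _ (Bialgebra.counitAlgHom k A (a ^ p))
      rw [← sub_eq_zero, ← AlgHom.commutes ev, ← map_sub, map_pow, map_pow]
      refine Ideal.Quotient.eq_zero_iff_mem.mpr (Ideal.subset_span ⟨incl (a - algebraMap k A (Bialgebra.counitAlgHom k A a)),
        key _ (RingHom.mem_ker.mp (ComodLib.sub_counit_mem a)), ?_⟩)
      rw [← map_pow]
      refine congrArg incl ?_
      rw [sub_eq_add_neg, add_pow_alg p k, neg_pow, ← map_pow]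
      rcases (Fact.out : p.Prime).eq_two_or_odd' with rfl | hodd
      · have h2 : (2 : A) = 0 := by rw [← Nat.cast_ofNat (R := A), ← map_natCast (algebraMap k A), CharP.cast_eq_zero, map_zero]
        linear_combination (algebraMap k A (Bialgebra.counitAlgHom k A a ^ 2)) * h2
      · rw [hodd.neg_one_pow]; ring
    refine Ideal.Quotient.eq_zero_iff_mem.mp (?_ : ev (c - algebraMap k A (Bialgebra.counitAlgHom k A c)) = 0)
    rw [map_sub, AlgHom.commutes, show ev c = algebraMap k _ (Bialgebra.counitAlgHom k A c) from hev hcm, sub_self]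
  let dA : A →ₗ[k] K := (dlin D).restrictScalars k ∘ₗ
    (Algebra.TensorProduct.includeRight : A →ₐ[k] K ⊗[k] A).toLinearMap
  let I := frobIdeal k A p
  let d' : (A ⧸ I) →ₗ[k] K := (I.restrictScalars k).liftQ dA fun z hz => hD z hz
  have hd'm : ∀ a : A, d' (Ideal.Quotient.mk I a) = dlin D ((1 : K) ⊗ₜ[k] a) := fun a => rfl
  let e : K ⊗[k] (A ⧸ I) →ₗ[K] K := LinearMap.liftBaseChange K d'
  let π : K ⊗[k] A →ₐc[K] K ⊗[k] (A ⧸ I) :=
    Bialgebra.TensorProduct.map (BialgHom.id K K) (Bialgebra.Quotient.mkBialgHom (R := k) I)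
  have hπ : Function.Surjective π := by
    intro z
    induction z using TensorProduct.induction_on with
    | zero => exact ⟨0, map_zero _⟩
    | tmul x t =>
      obtain ⟨a, rfl⟩ := Ideal.Quotient.mk_surjective t
      exact ⟨x ⊗ₜ a, rfl⟩
    | add x y hx hy =>
      obtain ⟨a, rfl⟩ := hx
      obtain ⟨b, rfl⟩ := hy
      exact ⟨a + b, map_add _ _ _⟩
  have heq : dlin D = e ∘ₗ (π : K ⊗[k] A →ₗ[K] K ⊗[k] (A ⧸ I)) := by
    refine LinearMap.ext fun z => ?_
    induction z using TensorProduct.induction_on with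
    | zero => simp
    | tmul x a =>
      rw [show x ⊗ₜ[k] a = x • ((1 : K) ⊗ₜ[k] a) by rw [TensorProduct.smul_tmul', smul_eq_mul, mul_one], map_smul, map_smul]
      refine congrArg (x • ·) ?_
      show _ = LinearMap.liftBaseChange K d' ((1 : K) ⊗ₜ[k] Ideal.Quotient.mk I a)
      rw [LinearMap.liftBaseChange_tmul, one_smul, hd'm]
    | add x y hx hy => simp only [map_add, hx, hy]
  have he : ∀ a b, e (a * b) = Bialgebra.counitAlgHom K _ a * e b + Bialgebra.counitAlgHom K _ b * e a := by
    intro a b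
    obtain ⟨a, rfl⟩ := hπ a
    obtain ⟨b, rfl⟩ := hπ b
    rw [show π a * π b = π (a * b) from (map_mul π a b).symm]
    show (e ∘ₗ (π : K ⊗[k] A →ₗ[K] K ⊗[k] (A ⧸ I))) (a * b) = _
    rw [← heq, LieHopf.dlin_mul, heq]
    exact congrArg₂ (· + ·) (congrArg (· * _) (CoalgHomClass.counit_comp_apply π a).symm)
      (congrArg (· * _) (CoalgHomClass.counit_comp_apply π b).symm)
  haveI : Algebra.FiniteType k (A ⧸ I) := .of_surjective (Ideal.Quotient.mkₐ k I) Ideal.Quotient.mk_surjective
  obtain ⟨n, -, hn⟩ := S2968.result p (TakeuchiLib.isUnipotent_baseChange (K := K) (isUnipotent_frobKer p h)) (mkLie e he)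
  refine ⟨p ^ n, ?_⟩
  rw [heq, convPow_comp, show e = dlin (mkLie e he) from rfl]
  show (convPow (dlin (mkLie e he)) (p ^ n)) ∘ₗ _ = 0
  rw [show convPow (dlin (mkLie e he)) (p ^ n) = 0 from hn, LinearMap.zero_comp]

include p in
/-- A connected group with nilpotent Lie algebra is unipotent. -/
theorem isUnipotent_of_nil (hconn : ∀ e : A, IsIdempotentElem e → e = 0 ∨ e = 1) (h : Nil k A) :
    HopfRep.IsUnipotent k A := by
  let K := AlgebraicClosure k
  haveI : CharP K p := charP_of_injective_algebraMap (algebraMap k K).injective p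
  exact TakeuchiLib.isUnipotent_of_baseChange (K := K)
    (isUnipotent_algClosed p (TakeuchiLib.noIdem_field hconn K) (nil_baseChange p K h))

end Descent

end Groth.Agent.HeightOneLib
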