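import Groth.Agent.HeightOneLib.Frob
import Mathlib.RingTheory.Bialgebra.MonoidAlgebra
import Mathlib.LinearAlgebra.Vandermonde
import Mathlib.LinearAlgebra.TensorProduct.Basis
import Mathlib.FieldTheory.Finite.Basic
import Mathlib.FieldTheory.IsAlgClosed.Basic

/-!
# A fixed point of the `p`-operation gives a subgroup `μ_p`
-/

universe u

set_option autoImplicit false
set_option backward.isDefEq.respectTransparency false
set_option backward.isDefEq.respectTransparency.types false

open TensorProduct WithConv

namespace Groth.Agent.HeightOneLib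

open LieHopf (dlin conv convPow Lie)

variable {k : Type u} [Field k] {A : Type u} [CommRing A] [HopfAlgebra k A]

theorem toConv_convPow (f : A →ₗ[k] k) (n : ℕ) : toConv (convPow f n) = toConv f ^ n := by
  induction n with
  | zero =>
    rw [pow_zero]
    exact congrArg toConv (LinearMap.ext fun a => by simp [convPow])
  | succ n ih => rw [pow_succ, ← ih]; rfl

theorem conv_apply_one (f g : A →ₗ[k] k) : conv f g 1 = f 1 * g 1 := by
  simp [conv, Bialgebra.comul_one, Algebra.TensorProduct.one_def]

theorem convPow_apply_one (f : A →ₗ[k] k) (n : ℕ) : convPow f n 1 = f 1 ^ n := by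
  induction n with
  | zero => simp [convPow]
  | succ n ih => rw [convPow, conv_apply_one, ih, pow_succ]

theorem convPow_mul' (D : Lie k A) (m : ℕ) (a b : A) :
    convPow (dlin D) m (a * b) =
      ∑ i ∈ Finset.range (m + 1), (m.choose i : k) * (convPow (dlin D) i a * convPow (dlin D) (m - i) b) :=
  S2968.convPow_mul (dlin D) (fun x y => by rw [LieHopf.dlin_mul]; ring) m a b

variable (p : ℕ) [Fact p.Prime] [CharP k p]

theorem pPow_leibniz (D : Lie k A) (a b : A) :
    convPow (dlin D) p (a * b) =
      Bialgebra.counitAlgHom k A a * convPow (dlin D) p b + Bialgebra.counitAlgHom k A b * convPow (dlin D) p a := by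
  rw [convPow_mul', Finset.sum_range_succ, Finset.sum_eq_single_of_mem 0 (Finset.mem_range.mpr (Fact.out : p.Prime).pos)
    fun i hi hi0 => ?_]
  · simp [convPow, mul_comm]
  · rw [(CharP.cast_eq_zero_iff k p _).mpr ((Fact.out : p.Prime).dvd_choose_self hi0 (Finset.mem_range.mp hi)), zero_mul]

/-- The `p`-operation. -/
noncomputable def pPow (D : Lie k A) : Lie k A := mkLie (convPow (dlin D) p) (pPow_leibniz p D)

theorem toConv_pPow_iterate (D : Lie k A) (i : ℕ) : toConv (dlin ((pPow p)^[i] D)) = toConv (dlin D) ^ p ^ i := by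
  induction i with
  | zero => simp
  | succ i ih =>
    rw [Function.iterate_succ_apply', show dlin (pPow p ((pPow p)^[i] D)) = convPow (dlin ((pPow p)^[i] D)) p from rfl,
      toConv_convPow, ih, ← pow_mul, ← pow_succ]

section Fixed

variable [IsAlgClosed k] [Algebra.FiniteType k A]

open Polynomial in
/-- A non-nilpotent derivation yields a nonzero fixed point of the `p`-operation. -/
theorem exists_fixed (D : Lie k A) (hD : ∀ n, convPow (dlin D) n ≠ 0) :
    ∃ E : Lie k A, dlin E ≠ 0 ∧ convPow (dlin E) p = dlin E := by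
  classical
  have hp : p.Prime := Fact.out
  obtain ⟨N, x, L, hx, -, hy⟩ := exists_dual_basis (k := k) (A := A)
  let d : ℕ → Lie k A := fun i => (pPow p)^[i] D
  let dv : Lie k A →ₗ[k] (Fin N → k) :=
    { toFun := fun X j => dlin X (x j)
      map_add' := fun X Y => rfl
      map_smul' := fun c X => rfl }
  have hdv : Function.Injective dv := by
    refine (injective_iff_map_eq_zero dv).mpr fun X hX => Derivation.ext fun a => ?_
    have h2 : ∀ z ∈ ComodLib.aug k A ^ 2, dlin X z = 0 := by
      intro z hz
      rw [pow_two] at hz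
      induction hz using Submodule.mul_induction_on' with
      | mem_mul_mem b hb c hc => rw [LieHopf.dlin_mul, RingHom.mem_ker.mp hb, RingHom.mem_ker.mp hc, zero_mul, zero_mul, add_zero]
      | add b _ c _ hb hc => rw [map_add, hb, hc, add_zero]
    have hX' : ∀ j, dlin X (x j) = 0 := fun j => congrFun hX j
    have := h2 _ (hy _ (ComodLib.sub_counit_mem a))
    simp only [map_sub, map_sum, map_smul, hX', smul_zero, Finset.sum_const_zero, sub_zero, LieHopf.dlin_algebraMap] at this
    exact this
  haveI : Module.Finite k (Lie k A) := Module.Finite.of_injective dv hdv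
  obtain ⟨r, hr⟩ : ∃ r, ¬ LinearIndependent k (fun i : Fin (r + 1) => d i) := ⟨Module.finrank k (Lie k A), fun h => by
    have := h.fintype_card_le_finrank
    simp at this⟩
  let r₀ := Nat.find (p := fun r => ¬ LinearIndependent k (fun i : Fin (r + 1) => d i)) ⟨r, hr⟩
  have hdep : ¬ LinearIndependent k (fun i : Fin (r₀ + 1) => d i) := Nat.find_spec (p := fun r => ¬ LinearIndependent k (fun i : Fin (r + 1) => d i)) ⟨r, hr⟩
  have hind : LinearIndependent k (fun i : Fin r₀ => d i) := by
    rcases Nat.eq_zero_or_pos r₀ with h | h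
    · rw [h]; exact linearIndependent_empty_type
    · obtain ⟨s, hs⟩ := Nat.exists_eq_succ_of_ne_zero h.ne'
      have := Nat.find_min (p := fun r => ¬ LinearIndependent k (fun i : Fin (r + 1) => d i)) ⟨r, hr⟩
        (show s < r₀ by omega)
      rw [hs]
      exact not_not.mp this
  rw [linearIndependent_fin_succ', not_and, not_not] at hdep
  obtain ⟨a, ha⟩ := Submodule.mem_span_range_iff_exists_fun k |>.mp (hdep hind)
  have hd0 : d r₀ ≠ 0 := fun h => hD (p ^ r₀) (by
    have h' := toConv_pPow_iterate p D r₀
    rw [show dlin ((pPow p)^[r₀] D) = dlin (d r₀) from rfl, h, ← toConv_convPow] at h'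
    exact (congrArg ofConv h').symm)
  have ha' : ∑ i : Fin r₀, a i • d i = d r₀ := by simpa [Fin.init] using ha
  obtain ⟨i₀, hi₀⟩ : ∃ i, a i ≠ 0 := by
    by_contra h
    push Not at h
    exact hd0 (by rw [← ha']; simp [h])
  -- the additive polynomials
  let b : ℕ → k := fun i => if h : i < r₀ then a ⟨i, h⟩ else 0
  let P : ℕ → k[X] := fun j => Nat.rec (motive := fun _ => k[X]) 0 (fun i Q => Q ^ p + C (b i) * X ^ p) j
  have hPdvd : ∀ j, X ^ p ∣ P j := by
    intro j
    induction j with
    | zero => exact dvd_zero _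
    | succ j ih => exact dvd_add (dvd_pow ih hp.ne_zero) (dvd_mul_left _ _)
  have hPne : ∀ j, i₀.1 < j → P j ≠ 0 := by
    intro j hj
    induction j with
    | zero => omega
    | succ j ih =>
      show P j ^ p + C (b j) * X ^ p ≠ 0
      rcases eq_or_ne (P j) 0 with h | h
      · have hji : j = i₀.1 := by
          by_contra hne
          exact ih (by omega) h
        rw [h, zero_pow hp.ne_zero, zero_add]
        subst hji
        exact mul_ne_zero (C_ne_zero.mpr (by simpa [b] using hi₀)) (pow_ne_zero _ X_ne_zero)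
      · intro he
        have h1 : (P j ^ p).natDegree ≤ p := by
          rw [eq_neg_of_add_eq_zero_left he, natDegree_neg]
          exact natDegree_C_mul_X_pow_le _ _
        rw [natDegree_pow] at h1
        have h2 := natDegree_le_of_dvd (hPdvd j) h
        rw [natDegree_X_pow] at h2
        nlinarith [hp.one_lt]
  obtain ⟨S, hS⟩ := hPdvd r₀
  have hS0 : S ≠ 0 := fun h => hPne r₀ i₀.2 (by rw [hS, h, mul_zero])
  obtain ⟨t, ht⟩ := IsAlgClosed.exists_root (X ^ (p - 1) * S - C 1) (fun h => by
    have h1 := natDegree_eq_of_degree_eq_some (n := 0) h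
    rw [natDegree_sub_C, natDegree_mul (pow_ne_zero _ X_ne_zero) hS0, natDegree_X_pow] at h1
    have := hp.two_le
    omega)
  rw [IsRoot, eval_sub, eval_mul, eval_pow, eval_X, eval_C, sub_eq_zero] at ht
  have ht0 : t ≠ 0 := by
    rintro rfl
    rw [zero_pow (by have := hp.two_le; omega), zero_mul] at ht
    exact zero_ne_one ht
  let y : ℕ → k := fun j => (P j).eval t
  have hy0 : y 0 = 0 := by simp [y, P]
  have hys : ∀ j, y (j + 1) = y j ^ p + b j * t ^ p := fun j => by simp [y, P]
  have hyr : y r₀ = t := by
    show (P r₀).eval t = t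
    rw [hS, eval_mul, eval_pow, eval_X, show t ^ p = t * t ^ (p - 1) by rw [← pow_succ', Nat.sub_add_cancel hp.pos],
      mul_assoc, ht, mul_one]
  refine ⟨∑ i : Fin r₀, y (i + 1) • d i, fun h => ?_, ?_⟩
  · have hsum : ∑ i : Fin r₀, y (i + 1) • d i = 0 := Derivation.ext fun z => LinearMap.congr_fun h z
    have hpos : 0 < r₀ := (Nat.zero_le _).trans_lt i₀.2
    have := Fintype.linearIndependent_iff.mp hind (fun i => y (i + 1)) hsum ⟨r₀ - 1, by omega⟩
    simp only [Nat.sub_add_cancel hpos, hyr] at this
    exact ht0 this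
  let δ := toConv (dlin D)
  let F : ℕ → WithConv (A →ₗ[k] k) := fun i => δ ^ p ^ i
  have hF : ∀ X : Lie k A, ∀ c : k, toConv (dlin (c • X)) = c • toConv (dlin X) := fun X c => rfl
  let Φ : Lie k A →ₗ[k] WithConv (A →ₗ[k] k) :=
    { toFun := fun X => toConv (dlin X)
      map_add' := fun X Y => rfl
      map_smul' := fun c X => rfl }
  have hΦ : Φ (∑ i : Fin r₀, y (i + 1) • d i) = ∑ i : Fin r₀, y (i + 1) • F i := by
    rw [map_sum]
    exact Finset.sum_congr rfl fun i _ => by rw [map_smul]; exact congrArg _ (toConv_pPow_iterate p D i)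
  let q : k[X] := ∑ i : Fin r₀, C (y (i + 1)) * X ^ p ^ (i : ℕ)
  have hq : aeval δ q = ∑ i : Fin r₀, y (i + 1) • F i := by
    simp [q, F, Algebra.smul_def]
  have hqp : q ^ p = ∑ i : Fin r₀, C (y (i + 1) ^ p) * X ^ p ^ ((i : ℕ) + 1) := by
    rw [sum_pow_char p]
    exact Finset.sum_congr rfl fun i _ => by rw [mul_pow, ← C_pow, ← pow_mul, ← pow_succ]
  have hrel : F r₀ = ∑ i : Fin r₀, a i • F i := by
    have h := congrArg Φ ha'
    rw [map_sum] at h
    refine (toConv_pPow_iterate p D r₀).symm.trans (h.symm.trans (Finset.sum_congr rfl fun i _ => ?_))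
    rw [map_smul]; exact congrArg _ (toConv_pPow_iterate p D i)
  have key : ∑ i : Fin r₀, y (i + 1) ^ p • F (i + 1) = ∑ i : Fin r₀, y (i + 1) • F i := by
    have e1 : ∑ i : Fin r₀, y (i + 1) ^ p • F (i + 1) = ∑ j ∈ Finset.range (r₀ + 1), y j ^ p • F j := by
      rw [Finset.sum_range_succ', hy0, zero_pow hp.ne_zero, zero_smul, add_zero,
        Fin.sum_univ_eq_sum_range (fun i => y (i + 1) ^ p • F (i + 1))]
    rw [e1, Finset.sum_range_succ, hyr, hrel, Finset.smul_sum, ← Fin.sum_univ_eq_sum_range (fun i => y i ^ p • F i),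
      ← Finset.sum_add_distrib]
    refine Finset.sum_congr rfl fun i _ => ?_
    rw [smul_smul, ← add_smul, hys, show b i = a i from dif_pos i.2, mul_comm (t ^ p)]
  refine toConv_injective ?_
  show _ = Φ _
  rw [toConv_convPow]
  show Φ (∑ i : Fin r₀, y (i + 1) • d i) ^ p = _
  rw [hΦ]
  refine Eq.trans ?_ key
  rw [← hq, ← map_pow, hqp]
  simp [F, Algebra.smul_def]

end Fixed

section Mu

variable (k) in
/-- The moments on the group algebra of `ℤ/p`. -/
noncomputable def moment (m : ℕ) : MonoidAlgebra k (Multiplicative (ZMod p)) →ₗ[k] k :=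
  Finsupp.linearCombination k (fun g => (ZMod.castHom (dvd_refl p) k (Multiplicative.toAdd g)) ^ m) ∘ₗ
    (MonoidAlgebra.coeffLinearEquiv k).toLinearMap

theorem moment_single (m : ℕ) (g : Multiplicative (ZMod p)) (c : k) :
    moment k p m (MonoidAlgebra.single g c) = c * ZMod.castHom (dvd_refl p) k (Multiplicative.toAdd g) ^ m := by
  simp [moment]

theorem moment_mul (m : ℕ) (x y : MonoidAlgebra k (Multiplicative (ZMod p))) :
    moment k p m (x * y) = ∑ i ∈ Finset.range (m + 1), (m.choose i : k) * (moment k p i x * moment k p (m - i) y) := by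
  induction x using MonoidAlgebra.induction_linear with
  | zero => simp
  | add x x' hx hx' => simp only [add_mul, map_add, hx, hx', mul_add, Finset.sum_add_distrib]
  | single g c =>
    induction y using MonoidAlgebra.induction_linear with
    | zero => simp
    | add y y' hy hy' => simp only [mul_add, map_add, hy, hy', Finset.sum_add_distrib]
    | single h e =>
      simp only [MonoidAlgebra.single_mul_single, moment_single, toAdd_mul, map_add, add_pow, Finset.mul_sum]
      exact Finset.sum_congr rfl fun i _ => by ring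

theorem moment_pmod (r : ℕ) (hr : p ≤ r) : moment k p r = moment k p (r - (p - 1)) := by
  refine MonoidAlgebra.lhom_ext' fun g => LinearMap.ext fun c => ?_
  simp only [LinearMap.comp_apply, MonoidAlgebra.lsingle_apply]
  rw [moment_single, moment_single]
  congr 1
  obtain ⟨s, rfl⟩ := Nat.exists_eq_add_of_le hr
  have := (Fact.out : p.Prime).two_le
  rw [show p + s - (p - 1) = s + 1 by omega, pow_add, pow_succ', ← map_pow, ZMod.pow_card]

variable (k) in
/-- The moments below `p`. -/
noncomputable def momentMap : MonoidAlgebra k (Multiplicative (ZMod p)) →ₗ[k] (Fin p → k) :=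
  LinearMap.pi fun i => moment k p i

theorem momentMap_bijective : Function.Bijective (momentMap k p) := by
  classical
  haveI : NeZero p := ⟨(Fact.out : p.Prime).ne_zero⟩
  have hinj : Function.Injective (momentMap k p) := by
    refine (injective_iff_map_eq_zero _).mpr fun x hx => ?_
    let e : Fin p ≃ Multiplicative (ZMod p) := (ZMod.finEquiv p).toEquiv.trans Multiplicative.ofAdd
    let f : Fin p → k := fun j => ZMod.castHom (dvd_refl p) k (Multiplicative.toAdd (e j))
    have hf : Function.Injective f :=
      (RingHom.injective _).comp (Multiplicative.toAdd.injective.comp e.injective)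
    have hv : ∀ i : Fin p, ∑ j, x.coeff (e j) * f j ^ (i : ℕ) = 0 := fun i => by
      have h := congrFun hx i
      simp only [momentMap, LinearMap.pi_apply, moment, LinearMap.comp_apply, LinearEquiv.coe_coe] at h
      rw [Finsupp.linearCombination_apply, Finsupp.sum_fintype _ _ (by simp), ← e.sum_comp] at h
      exact h
    have hz := Matrix.eq_zero_of_forall_pow_sum_mul_pow_eq_zero hf hv
    refine MonoidAlgebra.coeff_injective (Finsupp.ext fun g => ?_)
    obtain ⟨j, rfl⟩ := e.surjective g
    exact congrFun hz j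
  haveI : Module.Finite k (MonoidAlgebra k (Multiplicative (ZMod p))) := Module.Finite.of_injective _ hinj
  refine ⟨hinj, (LinearMap.injective_iff_surjective_of_finrank_eq_finrank ?_).mp hinj⟩
  rw [(MonoidAlgebra.coeffLinearEquiv k).finrank_eq, Module.finrank_finsupp_self, Module.finrank_fin_fun]
  simp

/-- A fixed derivation gives a closed subgroup `μ_p`. -/
theorem exists_mu (E : Lie k A) (hE0 : dlin E ≠ 0) (hE : convPow (dlin E) p = dlin E) :
    ∃ φ : A →ₐc[k] MonoidAlgebra k (Multiplicative (ZMod p)), Function.Surjective φ := by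
  classical
  have hp : p.Prime := Fact.out
  let ι := LinearEquiv.ofBijective (momentMap k p) (momentMap_bijective p)
  let ψ : A →ₗ[k] (Fin p → k) := LinearMap.pi fun i => convPow (dlin E) (i : ℕ)
  let φ : A →ₗ[k] MonoidAlgebra k (Multiplicative (ZMod p)) := ι.symm.toLinearMap ∘ₗ ψ
  have hlt : ∀ (i : Fin p) a, moment k p i (φ a) = convPow (dlin E) i a := fun i a =>
    congrFun (ι.apply_symm_apply (ψ a)) i
  have hall : ∀ r a, moment k p r (φ a) = convPow (dlin E) r a := by
    intro r
    induction r using Nat.strong_induction_on with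
    | _ r ih =>
      intro a
      by_cases hr : r < p
      · exact hlt ⟨r, hr⟩ a
      have hr' := not_lt.mp hr
      obtain ⟨s, rfl⟩ := Nat.exists_eq_add_of_le hr'
      have := hp.two_le
      rw [moment_pmod p _ hr', ih _ (by omega)]
      refine LinearMap.congr_fun ?_ a
      refine toConv_injective ?_
      rw [toConv_convPow, toConv_convPow, show p + s - (p - 1) = 1 + s by omega, pow_add, pow_add, pow_one,
        ← toConv_convPow _ p, hE]
  let bb : Module.Basis (Fin p) k (MonoidAlgebra k (Multiplicative (ZMod p))) := (Pi.basisFun k (Fin p)).map ι.symm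
  have hbb : ∀ x i, bb.repr x i = moment k p i x := fun x i => by
    simp [bb, ι, momentMap]
  have hext : ∀ x y, (∀ i : Fin p, moment k p i x = moment k p i y) → x = y := fun x y h =>
    bb.ext_elem fun i => by rw [hbb, hbb, h]
  have hmul : ∀ a b, φ (a * b) = φ a * φ b := fun a b => hext _ _ fun i => by
    rw [hlt, moment_mul, convPow_mul']
    exact Finset.sum_congr rfl fun l _ => by rw [hall, hall]
  have hone : φ 1 = 1 := hext _ _ fun i => by
    rw [hlt, convPow_apply_one, LieHopf.dlin_one, MonoidAlgebra.one_def, moment_single]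
    simp
  let φa : A →ₐ[k] MonoidAlgebra k (Multiplicative (ZMod p)) := AlgHom.ofLinearMap φ hone hmul
  have hcu : ∀ x, Coalgebra.counit (R := k) x = moment k p 0 x := LinearMap.congr_fun
    (MonoidAlgebra.lhom_ext' fun g => LinearMap.ext fun c => by simp [moment_single])
  let φc : A →ₐc[k] MonoidAlgebra k (Multiplicative (ZMod p)) := BialgHom.ofAlgHom φa
    (AlgHom.ext fun a => by
      show Coalgebra.counit (R := k) (φ a) = Coalgebra.counit (R := k) a
      rw [hcu, hall]
      rfl)
    (AlgHom.ext fun a => (bb.tensorProduct bb).ext_elem fun ij => by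
      obtain ⟨i, j⟩ := ij
      have hl : ∀ z : A ⊗[k] A, (bb.tensorProduct bb).repr (Algebra.TensorProduct.map φa φa z) (i, j) =
          LinearMap.mul' k k (TensorProduct.map (convPow (dlin E) i) (convPow (dlin E) j) z) := fun z => by
        induction z using TensorProduct.induction_on with
        | zero => simp
        | tmul x y => simp [hbb, φa, hlt, mul_comm]
        | add x y hx hy => simp only [map_add, Finsupp.add_apply, hx, hy]
      have hr : ∀ x, (bb.tensorProduct bb).repr (Coalgebra.comul (R := k) x) (i, j) = moment k p (i + j) x := fun x => by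
        induction x using MonoidAlgebra.induction_linear with
        | zero => simp
        | add x y hx hy => simp only [map_add, Finsupp.add_apply, hx, hy]
        | single g c => simp [hbb, moment_single, pow_add]; ring
      simp only [AlgHom.comp_apply]
      show (bb.tensorProduct bb).repr (Algebra.TensorProduct.map φa φa (Coalgebra.comul (R := k) a)) (i, j) =
        (bb.tensorProduct bb).repr (Coalgebra.comul (R := k) (φ a)) (i, j)
      rw [hr, hall, hl]
      show conv (convPow (dlin E) i) (convPow (dlin E) j) a = _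
      refine LinearMap.congr_fun ?_ a
      refine toConv_injective ?_
      rw [toConv_convPow, pow_add, ← toConv_convPow, ← toConv_convPow]
      rfl)
  refine ⟨φc, ?_⟩
  show Function.Surjective φ
  refine ι.symm.surjective.comp (LinearMap.range_eq_top.mp ?_)
  by_contra hne
  obtain ⟨f, hf0, hf⟩ := Submodule.exists_dual_map_eq_bot_of_lt_top (lt_top_iff_ne_top.mpr hne) inferInstance
  obtain ⟨a₀, hεa, hEa⟩ : ∃ a, Bialgebra.counitAlgHom k A a = 0 ∧ dlin E a ≠ 0 := by
    by_contra h
    push Not at h
    refine hE0 (LinearMap.ext fun a => ?_)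
    have := h _ (RingHom.mem_ker.mp (ComodLib.sub_counit_mem a))
    rwa [map_sub, LieHopf.dlin_algebraMap, sub_zero] at this
  have hpow : ∀ d m : ℕ, m ≤ d → convPow (dlin E) m (a₀ ^ d) = if m = d then (d.factorial : k) * dlin E a₀ ^ d else 0 := by
    intro d
    induction d with
    | zero => intro m hm; obtain rfl : m = 0 := by omega
              simp [convPow]
    | succ d ih =>
      intro m hm
      rw [pow_succ, convPow_mul']
      by_cases hmd : m = d + 1
      · subst hmd
        rw [if_pos rfl, Finset.sum_range_succ, Finset.sum_range_succ,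
          Finset.sum_eq_zero fun i hi => by rw [ih i (by have := Finset.mem_range.mp hi; omega), if_neg (by have := Finset.mem_range.mp hi; omega), zero_mul, mul_zero],
          ih d le_rfl, if_pos rfl, show d + 1 - d = 1 by omega, show d + 1 - (d + 1) = 0 by omega,
          show convPow (dlin E) 1 a₀ = dlin E a₀ by rw [convPow, convPow]; exact LinearMap.congr_fun (conv_counit_left _) a₀,
          show convPow (dlin E) 0 a₀ = 0 from hεa, mul_zero, mul_zero, add_zero, zero_add,
          Nat.choose_succ_self_right, Nat.factorial_succ, pow_succ]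
        push_cast
        ring
      · rw [if_neg hmd]
        refine Finset.sum_eq_zero fun i hi => ?_
        have := Finset.mem_range.mp hi
        rw [ih i (by omega)]
        by_cases hid : i = d
        · rw [show m - i = 0 by omega, show convPow (dlin E) 0 a₀ = 0 from hεa, mul_zero, mul_zero]
        · rw [if_neg hid, zero_mul, mul_zero]
  let c : Fin p → k := fun m => f (Pi.single m 1)
  have hfc : ∀ v, f v = ∑ m, v m * c m := fun v => by
    conv_lhs => rw [pi_eq_sum_univ' v]
    simp [c]
  obtain ⟨d, hd, hmax⟩ : ∃ d, c d ≠ 0 ∧ ∀ m, d < m → c m = 0 := by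
    have hex : (Finset.univ.filter fun m => c m ≠ 0).Nonempty := by
      by_contra h
      refine hf0 (LinearMap.ext fun v => ?_)
      rw [hfc, LinearMap.zero_apply]
      refine Finset.sum_eq_zero fun m _ => ?_
      rw [show c m = 0 from by_contra fun hm => h ⟨m, Finset.mem_filter.mpr ⟨Finset.mem_univ _, hm⟩⟩, mul_zero]
    refine ⟨_, (Finset.mem_filter.mp (Finset.max'_mem _ hex)).2, fun m hm => by_contra fun h => ?_⟩
    exact absurd (Finset.le_max' _ m (Finset.mem_filter.mpr ⟨Finset.mem_univ _, h⟩)) (not_le.mpr hm)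
  have h0 : f (ψ (a₀ ^ (d : ℕ))) = 0 := (Submodule.eq_bot_iff _).mp hf _ (Submodule.mem_map_of_mem ⟨_, rfl⟩)
  rw [hfc, Finset.sum_eq_single d (fun m _ hmd => ?_) (by simp)] at h0
  · rw [show ψ (a₀ ^ (d : ℕ)) d = convPow (dlin E) d (a₀ ^ (d : ℕ)) from rfl, hpow _ _ le_rfl, if_pos rfl] at h0
    refine mul_ne_zero (mul_ne_zero ?_ (pow_ne_zero _ hEa)) hd h0
    rw [Ne, CharP.cast_eq_zero_iff k p, hp.dvd_factorial, not_le]
    exact d.2
  · rcases lt_or_gt_of_ne hmd with hlt' | hgt
    · rw [show ψ (a₀ ^ (d : ℕ)) m = convPow (dlin E) m (a₀ ^ (d : ℕ)) from rfl, hpow _ _ hlt'.le,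
        if_neg (fun e => hmd (Fin.ext e)), zero_mul]
    · rw [hmax m hgt, mul_zero]

end Mu

end Groth.Agent.HeightOneLib

namespace Groth.Agent.HeightOneLib

variable {k : Type u} [Field k]

/-- `μ_n` is not unipotent. -/
theorem not_unipotent_mu (n : ℕ) [Fact n.Prime] :
    ¬ HopfRep.IsUnipotent k (MonoidAlgebra k (Multiplicative (ZMod n))) := by
  intro hU
  let g : MonoidAlgebra k (Multiplicative (ZMod n)) := MonoidAlgebra.single (Multiplicative.ofAdd 1) 1
  obtain ⟨c, hc⟩ : ∃ c : HopfRep.Comod k (MonoidAlgebra k (Multiplicative (ZMod n))) k,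
      ∀ v : k, c.coact v = v ⊗ₜ[k] g := ⟨{
    coact := (TensorProduct.mk k k _).flip g
    coassoc := by
      ext
      simp [g]
    counit_comp := by
      ext
      simp [g] }, fun v => rfl⟩
  letI := c
  obtain ⟨v, hv, hv0⟩ := (Submodule.ne_bot_iff _).mp (hU k inferInstance inferInstance)
  have h : g = 1 := by
    have h1 : v ⊗ₜ[k] g = v ⊗ₜ[k] (1 : MonoidAlgebra k (Multiplicative (ZMod n))) := (hc v).symm.trans hv
    have := congrArg (TensorProduct.lid k _) h1
    simp only [TensorProduct.lid_tmul] at this
    exact smul_right_injective _ hv0 this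
  rw [MonoidAlgebra.one_def] at h
  have h2 : Finsupp.single (Multiplicative.ofAdd (1 : ZMod n)) (1 : k) = Finsupp.single 1 1 :=
    congrArg MonoidAlgebra.coeff h
  rcases (Finsupp.single_eq_single_iff _ _ _ _).mp h2 with ⟨h3, -⟩ | ⟨h3, -⟩
  · exact one_ne_zero (Multiplicative.ofAdd.injective h3)
  · exact one_ne_zero h3

end Groth.Agent.HeightOneLib
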