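import Groth.Agent.HeightOneLib.MuP
import Groth.Agent.GrpSchLib.UniPartDiag
import Groth.Agent.GrpSchLib.PointsClosure
import Groth.Agent.S16065
import Groth.Agent.ComodLib.Trig
import Mathlib.RingTheory.FiniteType
import Mathlib.RingTheory.SimpleModule.Basic

/-!
# Without `μ_n` every point is unipotent
-/

universe u

set_option autoImplicit false
set_option backward.isDefEq.respectTransparency false
set_option backward.isDefEq.respectTransparency.types false

open TensorProduct WithConv

namespace Groth.Agent.HeightOneLib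

variable {k : Type u} [Field k] {A : Type u} [CommRing A] [HopfAlgebra k A] [Algebra.FiniteType k A]

/-- A nontrivial finitely generated commutative group maps onto some `ℤ/n`, `n` prime. -/
theorem exists_hom_zmod (M : Type u) [CommGroup M] [Group.FG M] [Nontrivial M] :
    ∃ n : ℕ, n.Prime ∧ ∃ f : M →* Multiplicative (ZMod n), Function.Surjective f := by
  haveI : Module.Finite ℤ (Additive M) := Module.Finite.iff_addGroup_fg.mpr inferInstance
  obtain ⟨N, hN, -⟩ := (IsCoatomic.eq_top_or_exists_le_coatom (⊥ : Submodule ℤ (Additive M))).resolve_left bot_ne_top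
  haveI : IsSimpleModule ℤ (Additive M ⧸ N) := isSimpleModule_iff_isCoatom.mpr hN
  obtain ⟨I, hI, ⟨e⟩⟩ := (isSimpleModule_iff_quot_maximal (R := ℤ) (M := Additive M ⧸ N)).mp inferInstance
  obtain ⟨c, rfl⟩ : ∃ c : ℤ, I = Ideal.span {c} := ⟨_, (Ideal.span_singleton_generator I).symm⟩
  obtain ⟨n, hn⟩ : ∃ n : ℕ, Ideal.span ({c} : Set ℤ) = Ideal.span {(n : ℤ)} := ⟨c.natAbs, (Int.span_natAbs c).symm⟩
  have hprime : n.Prime := by
    have hne : (n : ℤ) ≠ 0 := by
      intro h0
      rw [hn, h0, Ideal.span_singleton_zero] at hI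
      exact Ring.ne_bot_of_isMaximal_of_not_isField hI Int.not_isField rfl
    exact Nat.prime_iff_prime_int.mpr ((Ideal.span_singleton_prime hne).mp (hn ▸ hI.isPrime))
  let g : Additive M →+ ZMod n :=
    ((Ideal.quotEquivOfEq hn).trans (Int.quotientSpanNatEquivZMod n)).toAddMonoidHom.comp
      (e.toLinearMap.comp N.mkQ).toAddMonoidHom
  refine ⟨n, hprime, AddMonoidHom.toMultiplicativeRight g, ?_⟩
  intro y
  obtain ⟨x, hx⟩ := (((Ideal.quotEquivOfEq hn).trans (Int.quotientSpanNatEquivZMod n)).surjective.comp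
    (e.surjective.comp N.mkQ_surjective)) (Multiplicative.toAdd y)
  exact ⟨Additive.toMul x, congrArg Multiplicative.ofAdd hx⟩

/-- A nontrivial group-like element gives a subgroup `μ_n`. -/
theorem exists_mu_of_diag {D : Type u} [CommRing D] [HopfAlgebra k D] [Algebra.FiniteType k D]
    (hD : HopfRep.IsDiagonalizable k D) {χ : D} (hχ : IsGroupLikeElem k χ) (hne : χ ≠ 1) :
    ∃ n : ℕ, n.Prime ∧ ∃ φ : D →ₐc[k] MonoidAlgebra k (Multiplicative (ZMod n)), Function.Surjective φ := by
  obtain ⟨M, _, ⟨e⟩⟩ := S16065.isDiag_of_isDiagonalizable hD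
  haveI : Algebra.FiniteType k (MonoidAlgebra k M) :=
    Algebra.FiniteType.of_surjective (e : D →ₐ[k] MonoidAlgebra k M) e.surjective
  haveI : Group.FG M := (MonoidAlgebra.finiteType_iff_group_fg (R := k)).mp inferInstance
  haveI : Nontrivial M := by
    by_contra h
    haveI := not_nontrivial_iff_subsingleton.mp h
    refine hne (e.injective ?_)
    rw [map_one]
    have h1 : IsGroupLikeElem k (e χ) := hχ.map e
    have hx : e χ = MonoidAlgebra.single 1 ((e χ).coeff 1) := MonoidAlgebra.ext (Finsupp.ext fun m => by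
      rw [Subsingleton.elim m 1, MonoidAlgebra.coeff_single, Finsupp.single_eq_same])
    have hc : (e χ).coeff 1 = 1 := by
      have h2 := h1.counit_eq_one
      rw [hx, MonoidAlgebra.counit_single] at h2
      simpa using h2
    exact hx.trans (by rw [hc, MonoidAlgebra.one_def])
  obtain ⟨n, hn, f, hf⟩ := exists_hom_zmod M
  refine ⟨n, hn, (MonoidAlgebra.mapDomainBialgHom k f).comp (e : D →ₐc[k] MonoidAlgebra k M), ?_⟩
  refine Function.Surjective.comp (g := MonoidAlgebra.mapDomainBialgHom k f) (f := e) ?_ e.surjective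
  intro y
  induction y using MonoidAlgebra.induction_linear with
  | zero => exact ⟨0, map_zero _⟩
  | add a b ha hb =>
    obtain ⟨a, rfl⟩ := ha
    obtain ⟨b, rfl⟩ := hb
    exact ⟨a + b, map_add _ _ _⟩
  | single g c =>
    obtain ⟨m, rfl⟩ := hf g
    exact ⟨MonoidAlgebra.single m c, by simp⟩

/-- A commutative group without subgroups `μ_n` is unipotent. -/
theorem isUnipotent_of_cocomm [IsAlgClosed k] [Coalgebra.IsCocomm k A]
    (hmu : ∀ n : ℕ, n.Prime → ¬ ∃ φ : A →ₐc[k] MonoidAlgebra k (Multiplicative (ZMod n)), Function.Surjective φ) :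
    HopfRep.IsUnipotent k A := by
  classical
  open GrpSchLib.UniPart in
  haveI := isHopfIdeal_J (k := k) (A := A)
  let π := Bialgebra.Quotient.mkBialgHom (R := k) (GrpSchLib.UniPart.J k A)
  haveI : Algebra.FiniteType k (A ⧸ GrpSchLib.UniPart.J k A) :=
    .of_surjective (Ideal.Quotient.mkₐ k _) Ideal.Quotient.mk_surjective
  have hπB : ∀ y ∈ GrpSchLib.UniPart.Bs k A, π y = Coalgebra.counit (R := k) y • (1 : A ⧸ GrpSchLib.UniPart.J k A) := by
    intro y hy
    rw [← Algebra.algebraMap_eq_smul_one]
    refine Ideal.Quotient.eq.mpr (Ideal.subset_span ⟨sub_mem (show y ∈ GrpSchLib.UniPart.B k A from hy)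
      (Subalgebra.algebraMap_mem _ _), ?_⟩)
    rw [map_sub, Bialgebra.counit_algebraMap, sub_self]
  have hD : HopfRep.IsDiagonalizable k (A ⧸ GrpSchLib.UniPart.J k A) := by
    refine eq_top_iff.mpr fun z _ => ?_
    obtain ⟨x, rfl⟩ := Ideal.Quotient.mk_surjective z
    have hx : x ∈ GrpSchLib.UniPart.glSpan k A := by
      rw [GrpSchLib.UniPart.glSpan_eq_top]; exact Submodule.mem_top
    show π x ∈ _
    clear * - hx hπB
    induction hx using Submodule.span_induction with
    | mem a ha =>
      obtain ⟨g, y, hg, hy, rfl⟩ := ha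
      rw [map_mul, hπB y hy, mul_smul_comm, mul_one]
      exact Submodule.smul_mem _ _ (Submodule.subset_span (hg.map π))
    | zero => rw [map_zero]; exact zero_mem _
    | add a b _ _ ha hb => rw [map_add]; exact add_mem ha hb
    | smul r a _ ha => rw [map_smul]; exact Submodule.smul_mem _ _ ha
  have hone : ∀ χ : A ⧸ GrpSchLib.UniPart.J k A, IsGroupLikeElem k χ → χ = 1 := by
    intro χ hχ
    by_contra hne
    obtain ⟨n, hn, φ, hφ⟩ := exists_mu_of_diag hD hχ hne
    exact hmu n hn ⟨φ.comp π, hφ.comp Ideal.Quotient.mk_surjective⟩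
  have haug : ∀ a ∈ RingHom.ker (Bialgebra.counitAlgHom k A), a ∈ GrpSchLib.UniPart.J k A := by
    intro a ha
    have h : π a ∈ Submodule.span k {(1 : A ⧸ GrpSchLib.UniPart.J k A)} :=
      (Submodule.span_mono (fun x hx => hone x hx) : Submodule.span k {x | IsGroupLikeElem k x} ≤ _)
        ((show Submodule.span k _ = ⊤ from hD) ▸ Submodule.mem_top)
    obtain ⟨r, hr⟩ := Submodule.mem_span_singleton.mp h
    have h2 := congrArg (Coalgebra.counit (R := k)) hr
    rw [map_smul, Bialgebra.counit_one, CoalgHomClass.counit_comp_apply, show Coalgebra.counit (R := k) a = 0 from ha,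
      smul_eq_mul, mul_one] at h2
    rw [h2, zero_smul] at hr
    exact Ideal.Quotient.eq_zero_iff_mem.mp hr.symm
  have htop : ∀ a : A, a ∈ GrpSchLib.UniPart.B k A := fun a => by
    refine (TakeuchiLib.mem_iff (GrpSchLib.UniPart.B k A) GrpSchLib.UniPart.isHopfSubalgebra _ rfl a).mpr ?_
    have hex : Function.Exact ((SGA3.augIdealSpan k A (GrpSchLib.UniPart.B k A)).restrictScalars k).subtype
        (Bialgebra.counitAlgHom k A).toLinearMap := LinearMap.exact_iff.mpr (by
      rw [Submodule.range_subtype]
      ext b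
      refine ⟨fun hb => haug b hb, fun hb => ?_⟩
      exact (Ideal.span_le.mpr (fun c hc => hc.2) :
        SGA3.augIdealSpan k A (GrpSchLib.UniPart.B k A) ≤ RingHom.ker (Bialgebra.counitAlgHom k A)) hb)
    refine (lTensor_exact A hex (fun c => ⟨algebraMap k A c, by simp⟩) _).mp ?_
    rw [map_sub, LinearMap.lTensor_tmul]
    show LinearMap.lTensor A (Coalgebra.counit (R := k)) (Coalgebra.comul (R := k) a) - _ = 0
    rw [Coalgebra.lTensor_counit_comul]
    simp
  letI := GrpSchLib.SubHopf.hopf (GrpSchLib.UniPart.B k A) (GrpSchLib.UniPart.isHopfSubalgebra (k := k) (A := A))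
  exact TakeuchiLib.isUnipotent_of_surjective
    (BialgHom.ofAlgHom (GrpSchLib.UniPart.B k A).val rfl
      (AlgHom.ext fun c => GrpSchLib.SubHopf.map_comulRes _ GrpSchLib.UniPart.isHopfSubalgebra c) :
      GrpSchLib.UniPart.B k A →ₐc[k] A) (fun a => ⟨⟨a, htop a⟩, rfl⟩) GrpSchLib.UniPart.isUnipotent

/-- Without subgroups `μ_n` every point acts unipotently. -/
theorem isNilpotent_act [IsAlgClosed k]
    (hmu : ∀ n : ℕ, n.Prime → ¬ ∃ φ : A →ₐc[k] MonoidAlgebra k (Multiplicative (ZMod n)), Function.Surjective φ)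
    (g : A →ₐ[k] k) (V : Type u) [AddCommGroup V] [Module k V] [cV : HopfRep.Comod k A V] [Module.Finite k V] :
    IsNilpotent (HopfRep.Comod.act k A V g - 1) := by
  classical
  let gz : ℤ → (A →ₐ[k] k) := fun m => (toConv g ^ m).ofConv
  let I : Ideal A := ⨅ m : ℤ, RingHom.ker (gz m)
  have hI : ∀ a, a ∈ I ↔ ∀ m, gz m a = 0 := fun a => by simp [I, Ideal.mem_iInf]
  let q : A →ₐ[k] A ⧸ I := Ideal.Quotient.mkₐ k I
  have hgz : ∀ m m' a, LinearMap.mul' k k (TensorProduct.map (gz m).toLinearMap (gz m').toLinearMap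
      (Coalgebra.comul (R := k) a)) = gz (m + m') a := fun m m' a => by
    have h : gz (m + m') = (toConv (gz m) * toConv (gz m')).ofConv := by
      show (toConv g ^ (m + m')).ofConv = _
      rw [zpow_add]
    rw [h, GrpSchLib.HopfQuot.convMul_apply]
    induction Coalgebra.comul (R := k) a using TensorProduct.induction_on with
    | zero => simp
    | tmul x y => simp
    | add x y hx hy => simp only [map_add, hx, hy]
  have key : ∀ z : A ⊗[k] A, (∀ m m', LinearMap.mul' k k (TensorProduct.map (gz m).toLinearMap (gz m').toLinearMap z) = 0) →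
      TensorProduct.map q.toLinearMap q.toLinearMap z = 0 := by
    intro z hz
    have h0 : ∀ m', (gz m').toLinearMap.lTensor (A ⧸ I) (q.toLinearMap.rTensor A z) = 0 := by
      intro m'
      have e : ∀ w : A ⊗[k] A, TensorProduct.rid k _ ((gz m').toLinearMap.lTensor (A ⧸ I) (q.toLinearMap.rTensor A w)) =
          q (TensorProduct.rid k A ((gz m').toLinearMap.lTensor A w)) := fun w => by
        induction w using TensorProduct.induction_on with
        | zero => simp
        | tmul x y => simp
        | add x y hx hy => simp only [map_add, hx, hy]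
      refine (TensorProduct.rid k _).injective (((e z).trans ?_).trans (map_zero _).symm)
      refine Ideal.Quotient.eq_zero_iff_mem.mpr ((hI _).mpr fun m => ?_)
      refine Eq.trans ?_ (hz m m')
      clear hz e
      induction z using TensorProduct.induction_on with
      | zero => simp
      | tmul x y => simp [mul_comm]
      | add x y hx hy => simp only [map_add, hx, hy]
    obtain ⟨s, c, hs, hc⟩ := GrpSchLib.exists_sum_tmul_of_forall_lTensor (fun m' => (gz m').toLinearMap) _ h0
    rw [← LinearMap.lTensor_comp_rTensor, LinearMap.comp_apply, hs, map_sum]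
    refine Finset.sum_eq_zero fun j _ => ?_
    rw [LinearMap.lTensor_tmul, AlgHom.toLinearMap_apply,
      show q (c j) = 0 from Ideal.Quotient.eq_zero_iff_mem.mpr ((hI _).mpr fun m => hc j m), TensorProduct.tmul_zero]
  haveI : I.IsHopfIdeal k := by
    refine @Ideal.IsHopfIdeal.mk _ _ _ _ _ I ⟨fun a ha => ?_, fun a ha => ?_⟩ fun a ha => (hI _).mpr fun m => ?_
    · have := (hI a).mp ha 0
      simpa [gz] using this
    · let ι := (I.restrictScalars k).liftQ q.toLinearMap (fun b hb => Ideal.Quotient.eq_zero_iff_mem.mpr hb)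
      have hι : Function.Injective ι := by
        rw [← LinearMap.ker_eq_bot]
        exact Submodule.ker_liftQ_eq_bot _ _ _ fun b hb => Ideal.Quotient.eq_zero_iff_mem.mp hb
      refine TensorProduct.map_injective_of_flat_flat ι ι hι hι ?_
      rw [map_zero]
      refine Eq.trans ?_ (key (Coalgebra.comul (R := k) a) fun m m' => by rw [hgz]; exact (hI a).mp ha _)
      induction Coalgebra.comul (R := k) a using TensorProduct.induction_on with
      | zero => simp
      | tmul x y => simp [ι]
      | add s t hs ht => simp only [map_add, hs, ht]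
    · have h : (gz m).comp (HopfAlgebra.antipodeAlgHom k A) = gz (-m) := by
        show _ = (toConv g ^ (-m)).ofConv
        rw [zpow_neg]
        rfl
      exact (AlgHom.congr_fun h a).trans ((hI a).mp ha _)
  haveI : Coalgebra.IsCocomm k (A ⧸ I) := by
    refine ⟨LinearMap.ext fun z => ?_⟩
    obtain ⟨a, rfl⟩ := Ideal.Quotient.mk_surjective z
    have h := key ((TensorProduct.comm k A A (Coalgebra.comul (R := k) a)) - Coalgebra.comul (R := k) a) fun m m' => by
      rw [map_sub, map_sub, hgz, sub_eq_zero, add_comm m, ← hgz]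
      induction Coalgebra.comul (R := k) a using TensorProduct.induction_on with
      | zero => simp
      | tmul x y => simp [mul_comm]
      | add x y hx hy => simp only [map_add, hx, hy]
    rw [map_sub, sub_eq_zero] at h
    show TensorProduct.comm k _ _ (Coalgebra.comul (R := k) (Bialgebra.Quotient.mkBialgHom (R := k) I a)) =
      Coalgebra.comul (R := k) (Bialgebra.Quotient.mkBialgHom (R := k) I a)
    rw [← CoalgHomClass.map_comp_comul_apply]
    refine Eq.trans ?_ h
    induction Coalgebra.comul (R := k) a using TensorProduct.induction_on with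
    | zero => simp
    | tmul x y => rfl
    | add x y hx hy => simp only [map_add, hx, hy]
  haveI : Algebra.FiniteType k (A ⧸ I) := .of_surjective q Ideal.Quotient.mk_surjective
  let π := Bialgebra.Quotient.mkBialgHom (R := k) I
  have hU : HopfRep.IsUnipotent k (A ⧸ I) := isUnipotent_of_cocomm fun n hn ⟨φ, hφ⟩ =>
    hmu n hn ⟨φ.comp π, hφ.comp Ideal.Quotient.mk_surjective⟩
  let gb : A ⧸ I →ₐ[k] k := Ideal.Quotient.liftₐ I g fun a ha => by simpa [gz] using (hI a).mp ha 1
  letI cQ : HopfRep.Comod k (A ⧸ I) V := ComodLib.pushComod π.toCoalgHom cV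
  have hn := ComodLib.isNilpotent_act_sub_one hU gb V
  have e : HopfRep.Comod.act k (A ⧸ I) V gb = HopfRep.Comod.act k A V g := LinearMap.ext fun v => by
    show TensorProduct.rid k V (gb.toLinearMap.lTensor V
        (LinearMap.lTensor V (π : A →ₗ[k] A ⧸ I) (cV.coact v))) = TensorProduct.rid k V (g.toLinearMap.lTensor V (cV.coact v))
    rw [← LinearMap.comp_apply (LinearMap.lTensor V _), ← LinearMap.lTensor_comp]
    rfl
  rwa [e] at hn

end Groth.Agent.HeightOneLib
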