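import Groth.Agent.HeightOneLib.Main
import Groth.Agent.HeightOneLib.Points
import Groth.Agent.ComodLib.CartierChar0
import Groth.Agent.S7975

/-!
# Groups without subgroups `μ_n` are unipotent
-/

universe u

set_option autoImplicit false
set_option backward.isDefEq.respectTransparency false
set_option backward.isDefEq.respectTransparency.types false

open TensorProduct WithConv

namespace Groth.Agent.HeightOneLib

open ComodLib (actF slice)

variable {k : Type u} [Field k] [IsAlgClosed k] {A : Type u} [CommRing A] [HopfAlgebra k A] [Algebra.FiniteType k A]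

theorem exists_point_ker (M : Ideal A) [M.IsMaximal] : ∃ g : A →ₐ[k] k, RingHom.ker g = M := by
  letI := Ideal.Quotient.field M
  haveI : Algebra.FiniteType k (A ⧸ M) := .of_surjective (Ideal.Quotient.mkₐ k M) Ideal.Quotient.mk_surjective
  haveI : Module.Finite k (A ⧸ M) := finite_of_finite_type_of_isJacobsonRing k (A ⧸ M)
  let e : k ≃ₐ[k] (A ⧸ M) := AlgEquiv.ofBijective (Algebra.ofId k _)
    (IsAlgClosed.algebraMap_bijective_of_isIntegral (k := k) (K := A ⧸ M))
  refine ⟨(e.symm : (A ⧸ M) →ₐ[k] k).comp (Ideal.Quotient.mkₐ k M), ?_⟩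
  ext a
  refine ⟨fun h => Ideal.Quotient.eq_zero_iff_mem.mp (e.symm.injective (h.trans (map_zero e.symm).symm)),
    fun h => ?_⟩
  show e.symm (Ideal.Quotient.mk M a) = 0
  rw [Ideal.Quotient.eq_zero_iff_mem.mpr h, map_zero]

/-- Unipotence from unipotence of the points and a space of functions determined by their values at points. -/
theorem isUnipotent_of_points
    (hpts : ∀ (g : A →ₐ[k] k) (V : Type u) [AddCommGroup V] [Module k V] [HopfRep.Comod k A V] [Module.Finite k V],
      IsNilpotent (HopfRep.Comod.act k A V g - 1))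
    (L : Submodule k A) (hR : ∀ (φ : A →ₗ[k] k), ∀ a ∈ L, actF φ a ∈ L)
    (hL : ∀ (φ : A →ₗ[k] k), ∀ a ∈ L, TakeuchiLib.coeffMap (A := A) φ a ∈ L) (h1 : (1 : A) ∈ L)
    (hdet : ∀ a ∈ L, (∀ g : A →ₐ[k] k, g a = 0) → a = 0)
    (hmeet : ∀ T : Submodule k A, Module.Finite k T → HopfRep.IsSubcomod (k := k) (A := A) T → T ≠ ⊥ → T ⊓ L ≠ ⊥) :
    HopfRep.IsUnipotent k A := by
  classical
  intro V _ _ _ _ _
  obtain ⟨S, -, -, hS, hS0, hmin⟩ := ComodLib.exists_simple_le
    (ComodLib.isSubcomod_top (k := k) (C := A) (V := V)) top_ne_bot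
  obtain ⟨s₀, hs₀, hs₀0⟩ := Submodule.exists_mem_ne_zero_of_ne_bot hS0
  obtain ⟨f, hf⟩ := Module.Projective.exists_dual_ne_zero k hs₀0
  let j : V →ₗ[k] A := TakeuchiLib.coeffMap f
  have hj : Hoch.IsComodHom A j := TakeuchiLib.isComodHom_coeffMap f
  have hjs : j s₀ ≠ 0 := fun h => hf (by
    rw [← TakeuchiLib.counit_coeffMap (A := A) f s₀]; exact (congrArg _ h).trans (map_zero _))
  have hinj : ∀ x ∈ S, j x = 0 → x = 0 := by
    intro x hx hjx
    rcases hmin _ (ComodLib.isSubcomod_inf (ComodLib.isSubcomod_ker hj) hS) inf_le_right with h | h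
    · exact (Submodule.mem_bot k).mp (h ▸ ⟨LinearMap.mem_ker.mpr hjx, hx⟩)
    · exact absurd (h.ge hs₀).1 hjs
  let T : Submodule k A := S.map j
  have hT : HopfRep.IsSubcomod (k := k) (A := A) T := ComodLib.isSubcomod_map hj hS
  haveI : Nontrivial ((T ⊓ L : Submodule k A)) := Submodule.nontrivial_iff_ne_bot.mpr (hmeet T inferInstance hT
    ((Submodule.ne_bot_iff _).mpr ⟨j s₀, Submodule.mem_map_of_mem hs₀, hjs⟩))
  haveI : Module.Finite k (T ⊓ L : Submodule k A) := Submodule.finiteDimensional_of_le inf_le_left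
  have hW : HopfRep.IsSubcomod (k := k) (A := A) (T ⊓ L) := ComodLib.isSubcomod_iff_actF.mpr fun φ a ha =>
    ⟨ComodLib.subcomod_actF_mem hT φ ha.1, hR φ a ha.2⟩
  let cW : HopfRep.Comod k A (T ⊓ L : Submodule k A) := ComodSub.Comod.restr (HopfRep.Comod.regular k A) _ hW
  letI := cW
  let ρ : WithConv (A →ₐ[k] k) →* Module.End k (T ⊓ L : Submodule k A) :=
    { toFun := fun g => actF g.ofConv.toLinearMap
      map_one' := LinearMap.ext fun v => by
        refine Eq.trans ?_ (ComodLib.actF_counit (k := k) (C := A) v)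
        refine congrArg (fun φ => actF φ v) (LinearMap.ext fun a => ?_)
        simp
      map_mul' := fun g h => LinearMap.ext fun v => by
        refine Eq.trans ?_ (ComodLib.actF_convMul (toConv g.ofConv.toLinearMap) (toConv h.ofConv.toLinearMap) v)
        refine congrArg (fun φ => actF φ v) (LinearMap.ext fun a => ?_)
        show (g * h) a = _
        rw [GrpSchLib.HopfQuot.convMul_apply, LinearMap.convMul_apply]
        induction CoalgebraStruct.comul (R := k) a using TensorProduct.induction_on with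
        | zero => simp
        | tmul x y => simp
        | add x y hx hy => simp only [map_add, hx, hy] }
  obtain ⟨w, hw0, hw⟩ := S7975.exists_fixed_of_isAlgClosed k (T ⊓ L : Submodule k A) ρ fun g => by
    have := hpts g.ofConv (T ⊓ L : Submodule k A)
    exact this
  have hfix : ∀ g : A →ₐ[k] k, actF g.toLinearMap (w : A) = (w : A) := fun g => by
    have h := congrArg Subtype.val (hw (toConv g))
    exact (ComodLib.comodHom_actF (ComodSub.isComodHom_subtype (HopfRep.Comod.regular k A) _ hW) _ w).symm.trans h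
  have hcoef : ∀ F : A →ₗ[k] k, TakeuchiLib.coeffMap (A := A) F (w : A) = F w • (1 : A) := fun F => by
    refine sub_eq_zero.mp (hdet _ (L.sub_mem (hL F _ w.2.2) (L.smul_mem _ h1)) fun g => ?_)
    rw [map_sub, map_smul, map_one, ← AlgHom.toLinearMap_apply g, TakeuchiLib.apply_coeffMap, hfix, smul_eq_mul, mul_one,
      sub_self]
  obtain ⟨v, hvS, hv⟩ := w.2.1
  refine (Submodule.ne_bot_iff _).mpr ⟨v, ComodLib.ext_of_forall_slice_eq fun φ => ?_,
    fun e => hw0 (Subtype.ext (by rw [← hv, e, map_zero]; rfl))⟩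
  rw [ComodLib.slice_tmul, ← sub_eq_zero]
  refine hinj _ (S.sub_mem (ComodLib.subcomod_actF_mem hS φ hvS) (S.smul_mem _ hvS)) ?_
  rw [map_sub, map_smul, show slice φ (HopfRep.Comod.coact (k := k) (A := A) v) = actF φ v from rfl,
    ComodLib.comodHom_actF hj φ v, hv, sub_eq_zero]
  refine (Module.forall_dual_apply_eq_zero_iff k _).mp (fun F => ?_) |> sub_eq_zero.mp
  rw [map_sub, ← TakeuchiLib.apply_coeffMap, hcoef, map_smul, map_smul, smul_eq_mul, smul_eq_mul, mul_comm, sub_self]

section CharP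

variable (p : ℕ) [Fact p.Prime] [CharP k p]

omit [Algebra.FiniteType k A] [IsAlgClosed k] in
theorem add_pow_iter {R : Type u} [CommRing R] [Algebra k R] (x y : R) :
    ∀ n, (x + y) ^ p ^ n = x ^ p ^ n + y ^ p ^ n := by
  intro n
  induction n with
  | zero => simp
  | succ n ih => rw [pow_succ, pow_mul, pow_mul, pow_mul, ih, add_pow_alg p k]

variable (k A) in
/-- The functions with iterated `p`-th roots of all orders. -/
noncomputable def perf : Submodule k A where
  carrier := {a | ∀ n, ∃ b : A, b ^ p ^ n = a}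
  add_mem' := by
    intro a b ha hb n
    obtain ⟨x, rfl⟩ := ha n
    obtain ⟨y, rfl⟩ := hb n
    exact ⟨x + y, add_pow_iter (k := k) p x y n⟩
  zero_mem' := fun n => ⟨0, zero_pow (pow_pos (Fact.out : p.Prime).pos n).ne'⟩
  smul_mem' := by
    intro c a ha n
    obtain ⟨x, rfl⟩ := ha n
    obtain ⟨s, hs⟩ := IsAlgClosed.exists_pow_nat_eq c (pow_pos (Fact.out : p.Prime).pos n)
    exact ⟨s • x, by rw [smul_pow, hs]⟩

omit [Algebra.FiniteType k A] in
theorem perf_slices {a : A} (ha : a ∈ perf k A p) (φ : A →ₗ[k] k) :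
    actF φ a ∈ perf k A p ∧ TakeuchiLib.coeffMap (A := A) φ a ∈ perf k A p := by
  have key : ∀ n, ∀ z : A ⊗[k] A, (∃ b, b ^ p ^ n = slice φ (z ^ p ^ n)) ∧
      ∃ b, b ^ p ^ n = TensorProduct.lid k A (φ.rTensor A (z ^ p ^ n)) := by
    intro n z
    have hq : (p ^ n : ℕ) ≠ 0 := (pow_pos (Fact.out : p.Prime).pos n).ne'
    induction z using TensorProduct.induction_on with
    | zero => exact ⟨⟨0, by simp [zero_pow hq]⟩, ⟨0, by simp [zero_pow hq]⟩⟩
    | tmul x y =>
      obtain ⟨s, hs⟩ := IsAlgClosed.exists_pow_nat_eq (φ (y ^ p ^ n)) (Nat.pos_of_ne_zero hq)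
      obtain ⟨t, ht⟩ := IsAlgClosed.exists_pow_nat_eq (φ (x ^ p ^ n)) (Nat.pos_of_ne_zero hq)
      exact ⟨⟨s • x, by simp [smul_pow, hs]⟩, ⟨t • y, by simp [smul_pow, ht]⟩⟩
    | add x y hx hy =>
      obtain ⟨⟨b, hb⟩, ⟨c, hc⟩⟩ := hx
      obtain ⟨⟨b', hb'⟩, ⟨c', hc'⟩⟩ := hy
      rw [add_pow_iter (k := k) p]
      exact ⟨⟨b + b', by rw [add_pow_iter (k := k) p, hb, hb', map_add]⟩,
        ⟨c + c', by rw [add_pow_iter (k := k) p, hc, hc', map_add, map_add]⟩⟩
  refine ⟨fun n => ?_, fun n => ?_⟩ <;> obtain ⟨b, rfl⟩ := ha n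
  · obtain ⟨c, hc⟩ := (key n (Bialgebra.comulAlgHom k A b)).1
    exact ⟨c, hc.trans (by rw [← map_pow]; rfl)⟩
  · obtain ⟨c, hc⟩ := (key n (Bialgebra.comulAlgHom k A b)).2
    exact ⟨c, hc.trans (by rw [← map_pow]; rfl)⟩

theorem perf_det {a : A} (ha : a ∈ perf k A p) (h : ∀ g : A →ₐ[k] k, g a = 0) : a = 0 := by
  haveI : IsNoetherianRing A := Algebra.FiniteType.isNoetherianRing k A
  have htop : (Submodule.span A {a}).annihilator = ⊤ := by
    by_contra hne
    obtain ⟨M, hM, hle⟩ := Ideal.exists_le_maximal _ hne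
    obtain ⟨g, hg⟩ := exists_point_ker (k := k) M
    have hmem : a ∈ (⨅ i : ℕ, M ^ i • ⊤ : Submodule A A) := by
      refine (Submodule.mem_iInf _).mpr fun i => ?_
      rw [smul_eq_mul, Ideal.mul_top]
      obtain ⟨b, rfl⟩ := ha i
      refine Ideal.pow_le_pow_right (Nat.lt_pow_self (Fact.out : p.Prime).one_lt).le (Ideal.pow_mem_pow ?_ _)
      rw [← hg, RingHom.mem_ker]
      have h0 := h g
      rw [map_pow] at h0
      exact (pow_eq_zero_iff (pow_pos (Fact.out : p.Prime).pos i).ne').mp h0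
    obtain ⟨r, hr⟩ := (Ideal.mem_iInf_smul_pow_eq_bot_iff M _).mp hmem
    have h1 : (1 - (r : A)) ∈ (Submodule.span A {a}).annihilator := by
      rw [Submodule.mem_annihilator_span_singleton, sub_smul, one_smul, hr, sub_self]
    exact (Ideal.ne_top_iff_one M).mp hM.ne_top (by simpa using M.add_mem (hle h1) r.2)
  simpa using (Submodule.mem_annihilator_span_singleton a (1 : A)).mp (htop ▸ Submodule.mem_top)

theorem perf_meet (hA : Nil k A) (T : Submodule k A) (hTf : Module.Finite k T)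
    (hT : HopfRep.IsSubcomod (k := k) (A := A) T) (hT0 : T ≠ ⊥) : T ⊓ perf k A p ≠ ⊥ := by
  let R : ℕ → Submodule k T := fun n =>
    { carrier := {a | ∃ b : A, b ^ p ^ n = (a : A)}
      add_mem' := by
        rintro a b ⟨x, hx⟩ ⟨y, hy⟩
        exact ⟨x + y, by rw [add_pow_iter (k := k) p, hx, hy]; rfl⟩
      zero_mem' := ⟨0, zero_pow (pow_pos (Fact.out : p.Prime).pos n).ne'⟩
      smul_mem' := by
        rintro c a ⟨b, hb⟩
        obtain ⟨s, hs⟩ := IsAlgClosed.exists_pow_nat_eq c (pow_pos (Fact.out : p.Prime).pos n)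
        exact ⟨s • b, by rw [smul_pow, hs, hb]; rfl⟩ }
  have hanti : Antitone R := antitone_nat_of_succ_le fun n a ⟨b, hb⟩ => ⟨b ^ p, by rw [← pow_mul, ← pow_succ', hb]⟩
  obtain ⟨N, hN⟩ := IsArtinian.monotone_stabilizes (R := k) (M := T)
    ⟨fun n => OrderDual.toDual (R n), fun m n h => hanti h⟩
  obtain ⟨w, hwT, hw0, hwN⟩ := exists_iterated_root p N A hA T hTf hT hT0
  refine (Submodule.ne_bot_iff _).mpr ⟨w, ⟨hwT, fun n => ?_⟩, hw0⟩
  have h : (⟨w, hwT⟩ : T) ∈ R N := hwN
  rcases le_total n N with hn | hn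
  · exact hanti hn h
  · rw [show R N = R n from hN n hn] at h
    exact h

end CharP

/-- A group without subgroups `μ_n` is unipotent. -/
theorem isUnipotent_of_no_mu
    (hmu : ∀ n : ℕ, n.Prime → ¬ ∃ φ : A →ₐc[k] MonoidAlgebra k (Multiplicative (ZMod n)), Function.Surjective φ) :
    HopfRep.IsUnipotent k A := by
  classical
  have hpts : ∀ (g : A →ₐ[k] k) (V : Type u) [AddCommGroup V] [Module k V] [HopfRep.Comod k A V] [Module.Finite k V],
      IsNilpotent (HopfRep.Comod.act k A V g - 1) := fun g V _ _ _ _ => isNilpotent_act hmu g V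
  rcases CharP.exists' k with h0 | ⟨p, hp, hchar⟩
  · haveI : _root_.IsReduced A := ComodLib.isReduced_of_charZero' (k := k)
    haveI : IsJacobsonRing A := isJacobsonRing_of_finiteType (A := k)
    refine isUnipotent_of_points hpts ⊤ (fun _ _ _ => trivial) (fun _ _ _ => trivial) trivial (fun a _ ha => ?_)
      fun T _ _ hT0 => by rwa [inf_top_eq]
    have hmem : a ∈ Ideal.jacobson (⊥ : Ideal A) := by
      simp only [Ideal.jacobson, Ideal.mem_sInf]
      rintro M ⟨-, hM⟩
      haveI := hM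
      obtain ⟨g, hg⟩ := exists_point_ker (k := k) M
      rw [← hg]
      exact ha g
    rw [isJacobsonRing_iff.mp inferInstance ⊥ (fun x ⟨n, hn⟩ => (IsNilpotent.eq_zero ⟨n, hn⟩ : x = 0))] at hmem
    exact hmem
  · haveI := hp
    have hnil : Nil k A := fun D => by
      by_contra hD
      push Not at hD
      obtain ⟨E, hE0, hE⟩ := exists_fixed p D hD
      exact hmu p hp.out (exists_mu p E hE0 hE)
    refine isUnipotent_of_points hpts (perf k A p) (fun φ a ha => (perf_slices p ha φ).1)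
      (fun φ a ha => (perf_slices p ha φ).2) (fun n => ⟨1, one_pow _⟩) (fun a ha h => perf_det p ha h)
      (perf_meet p hnil)

end Groth.Agent.HeightOneLib
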