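import Groth.Agent.HeightOneLib.Lie
import Groth.Agent.TakeuchiLib.Unip
import Mathlib.FieldTheory.Finite.Basic

/-!
# Height one groups: functions killed by the Lie algebra, unipotence
-/

universe u

set_option autoImplicit false
set_option backward.isDefEq.respectTransparency false
set_option backward.isDefEq.respectTransparency.types false

open TensorProduct

namespace Groth.Agent.HeightOneLib

open ComodLib (actF lieOp aug slice)
open LieHopf (dlin conv convPow Lie)

variable {k : Type u} [Field k] {A : Type u} [CommRing A] [HopfAlgebra k A]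

local notation "ε" => Bialgebra.counitAlgHom k A

/-- `ε`-derivations form a full dual system of the cotangent space. -/
theorem exists_dual_basis [Algebra.FiniteType k A] :
    ∃ (n : ℕ) (x : Fin n → A) (L : Fin n → LieHopf.Lie k A), (∀ i, x i ∈ aug k A) ∧
      (∀ i j, LieHopf.dlin (L i) (x j) = if i = j then 1 else 0) ∧
      ∀ y ∈ aug k A, y - ∑ i, LieHopf.dlin (L i) y • x i ∈ aug k A ^ 2 := by
  classical
  let W : Submodule k A := Submodule.span k {1} ⊔ (aug k A ^ 2).restrictScalars k
  have hmk : ∀ a b : A, W.mkQ (a * b) = ε a • W.mkQ b + ε b • W.mkQ a := by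
    intro a b
    rw [← map_smul, ← map_smul, ← map_add, ← sub_eq_zero, ← map_sub]
    refine (Submodule.Quotient.mk_eq_zero W).mpr ?_
    have h1 : (a - algebraMap k A (ε a)) * (b - algebraMap k A (ε b)) ∈ aug k A ^ 2 := by
      rw [pow_two]; exact Ideal.mul_mem_mul (ComodLib.sub_counit_mem a) (ComodLib.sub_counit_mem b)
    rw [show a * b - (ε a • b + ε b • a) =
      (-(ε a * ε b)) • (1 : A) + (a - algebraMap k A (ε a)) * (b - algebraMap k A (ε b)) by
        simp only [Algebra.smul_def, map_neg, map_mul]; ring]
    exact add_mem (Submodule.mem_sup_left (Submodule.smul_mem _ _ (Submodule.mem_span_singleton_self 1)))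
      (Submodule.mem_sup_right h1)
  have h1 : W.mkQ 1 = 0 :=
    (Submodule.Quotient.mk_eq_zero W).mpr (Submodule.mem_sup_left (Submodule.mem_span_singleton_self 1))
  have hfin : Module.Finite k (A ⧸ W) := by
    obtain ⟨s, hs⟩ := Algebra.FiniteType.out (R := k) (A := A)
    refine ⟨⟨s.image W.mkQ, eq_top_iff.mpr fun q _ => ?_⟩⟩
    obtain ⟨a, rfl⟩ := W.mkQ_surjective q
    have ha : a ∈ Algebra.adjoin k (↑s : Set A) := hs ▸ trivial
    induction ha using Algebra.adjoin_induction with
    | mem x hx => exact Submodule.subset_span (Finset.mem_image_of_mem _ hx)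
    | algebraMap r => rw [Algebra.algebraMap_eq_smul_one, map_smul, h1, smul_zero]; exact Submodule.zero_mem _
    | add x y _ _ hx hy => rw [map_add]; exact Submodule.add_mem _ (hx trivial) (hy trivial)
    | mul x y _ _ hx hy =>
      rw [hmk]
      exact Submodule.add_mem _ (Submodule.smul_mem _ _ (hy trivial)) (Submodule.smul_mem _ _ (hx trivial))
  let b := Module.finBasis k (A ⧸ W)
  choose x hx using fun i => W.mkQ_surjective (b i)
  refine ⟨_, fun i => x i - algebraMap k A (ε (x i)), fun i => Derivation.mk'
    { toFun := fun a => (b.coord i (W.mkQ a) : k)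
      map_add' := fun a a' => by show b.coord i (W.mkQ (a + a')) = _; rw [map_add, map_add]
      map_smul' := fun c a => by show b.coord i (W.mkQ (c • a)) = _; rw [map_smul, map_smul]; rfl }
    (fun a a' => by
      show b.coord i (W.mkQ (a * a')) = _
      rw [hmk, map_add, map_smul, map_smul]
      rfl), fun i => ComodLib.sub_counit_mem _, fun i j => ?_, fun y hy => ?_⟩
  · show b.coord i (W.mkQ (x j - algebraMap k A (ε (x j)))) = _
    rw [map_sub, Algebra.algebraMap_eq_smul_one, map_smul, h1, smul_zero, sub_zero, hx, Module.Basis.coord_apply,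
      Module.Basis.repr_self, Finsupp.single_apply]
    simp only [eq_comm]
  have hxe : ∀ i, W.mkQ (x i - algebraMap k A (ε (x i))) = b i := fun i => by
    rw [map_sub, Algebra.algebraMap_eq_smul_one, map_smul, h1, smul_zero, sub_zero, hx]
  set z := y - ∑ i, (b.coord i (W.mkQ y)) • (x i - algebraMap k A (ε (x i))) with hz
  show z ∈ aug k A ^ 2
  have hzW : z ∈ W := by
    rw [← Submodule.Quotient.mk_eq_zero]
    show W.mkQ z = 0
    rw [hz, map_sub, map_sum]
    simp only [map_smul, hxe, Module.Basis.coord_apply, b.sum_repr, sub_self]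
  obtain ⟨c, hc, w, hw, hcw⟩ := Submodule.mem_sup.mp hzW
  obtain ⟨r, rfl⟩ := Submodule.mem_span_singleton.mp hc
  have hz0 : ε z = 0 := by
    rw [hz, map_sub, map_sum, show ε y = 0 from hy]
    simp [map_smul, map_sub]
  have hw0 : ε w = 0 := Ideal.pow_le_self (n := 2) two_ne_zero hw
  rw [← hcw, map_add, map_smul, map_one, hw0, add_zero, smul_eq_mul, mul_one] at hz0
  rw [← hcw, hz0, zero_smul, zero_add]
  exact hw

theorem counit_lieOp (L : Lie k A) (v : A) : ε (lieOp L v) = dlin L v := by
  have : ∀ y : A ⊗[k] A, ε (slice (dlin L) y) =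
      dlin L (TensorProduct.lid k A ((Coalgebra.counit (R := k)).rTensor A y)) := fun y => by
    induction y using TensorProduct.induction_on with
    | zero => simp
    | tmul p q => simp [mul_comm]
    | add p q hp hq => simp only [map_add, hp, hq]
  refine (this _).trans ?_
  rw [show HopfRep.Comod.coact (k := k) (A := A) v = Coalgebra.comul (R := k) v from rfl,
    Coalgebra.rTensor_counit_comul]
  simp

section Euler

variable {N : ℕ} (x : Fin N → A) (L : Fin N → Lie k A)

/-- Euler operator of one coordinate. -/
noncomputable def euler (i : Fin N) : A →ₗ[k] A := LinearMap.mulLeft k (x i) ∘ₗ lieOp (L i)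

theorem euler_apply (i : Fin N) (a : A) : euler x L i a = x i * lieOp (L i) a := rfl

theorem euler_mul (i : Fin N) (a b : A) : euler x L i (a * b) = a * euler x L i b + b * euler x L i a := by
  simp only [euler_apply, ComodLib.lieOp_mul]; ring

variable (hx : ∀ i, x i ∈ aug k A) (hL : ∀ i j, dlin (L i) (x j) = if i = j then 1 else 0)

include hx in
theorem euler_mem (i : Fin N) : ∀ (n : ℕ) (a : A), a ∈ aug k A ^ n → euler x L i a ∈ aug k A ^ n := by
  intro n
  induction n with
  | zero => intro a _; rw [pow_zero, Ideal.one_eq_top]; trivial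
  | succ n ih =>
    intro a ha
    rw [pow_succ] at ha
    induction ha using Submodule.mul_induction_on' with
    | mem_mul_mem a ha b hb =>
      rw [euler_mul, pow_succ]
      refine Ideal.add_mem _ (Ideal.mul_mem_mul ha ?_) ?_
      · exact Ideal.mul_mem_right _ _ (hx i)
      · rw [mul_comm b]
        exact Ideal.mul_mem_mul (ih a ha) hb
    | add a _ b _ ha hb => rw [map_add]; exact Ideal.add_mem _ ha hb

/-- Monomials. -/
noncomputable def mon (α : Fin N → ℕ) : A := ∏ i, x i ^ α i

/-- Weight vectors modulo higher order. -/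
def HasWeight (i : Fin N) (u : A) (a : ℕ) (c : k) : Prop :=
  u ∈ aug k A ^ a ∧ euler x L i u - c • u ∈ aug k A ^ (a + 1)

theorem hasWeight_mul {i : Fin N} {u v : A} {a b : ℕ} {c d : k} (hu : HasWeight x L i u a c)
    (hv : HasWeight x L i v b d) : HasWeight x L i (u * v) (a + b) (c + d) := by
  refine ⟨by rw [pow_add]; exact Ideal.mul_mem_mul hu.1 hv.1, ?_⟩
  have e : euler x L i (u * v) - (c + d) • (u * v) =
      u * (euler x L i v - d • v) + v * (euler x L i u - c • u) := by
    simp only [euler_mul, Algebra.smul_def, map_add]; ring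
  rw [e]
  refine Ideal.add_mem _ ?_ ?_
  · rw [add_assoc, pow_add]; exact Ideal.mul_mem_mul hu.1 hv.2
  · rw [show a + b + 1 = b + (a + 1) by omega, pow_add]; exact Ideal.mul_mem_mul hv.1 hu.2

theorem hasWeight_one (i : Fin N) : HasWeight x L i (1 : A) 0 0 := by
  refine ⟨by simp, ?_⟩
  rw [euler_apply, ComodLib.lieOp_one]
  simp

include hx hL in
theorem hasWeight_gen (i j : Fin N) : HasWeight x L i (x j) 1 (if i = j then 1 else 0) := by
  refine ⟨by simpa using hx j, ?_⟩
  have h1 : lieOp (L i) (x j) - algebraMap k A (if i = j then 1 else 0) ∈ aug k A := by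
    rw [← hL i j, ← counit_lieOp]
    exact ComodLib.sub_counit_mem _
  have e : euler x L i (x j) - (if i = j then (1 : k) else 0) • x j =
      x i * (lieOp (L i) (x j) - algebraMap k A (if i = j then 1 else 0)) := by
    rw [euler_apply]
    split
    · next h => subst h; simp [mul_sub]
    · simp
  rw [e, pow_two]
  exact Ideal.mul_mem_mul (hx i) h1

include hx hL in
theorem hasWeight_mon (i : Fin N) (α : Fin N → ℕ) : HasWeight x L i (mon x α) (∑ j, α j) (α i : k) := by
  classical
  have hpow : ∀ (j : Fin N) (a : ℕ), HasWeight x L i (x j ^ a) a (if i = j then (a : k) else 0) := by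
    intro j a
    induction a with
    | zero => simpa using hasWeight_one x L i
    | succ a ih =>
      have := hasWeight_mul x L ih (hasWeight_gen x L hx hL i j)
      rw [pow_succ]
      convert this using 1
      split <;> simp
  have : ∀ s : Finset (Fin N), HasWeight x L i (∏ j ∈ s, x j ^ α j) (∑ j ∈ s, α j)
      (if i ∈ s then (α i : k) else 0) := by
    intro s
    induction s using Finset.induction_on with
    | empty => simpa using hasWeight_one x L i
    | insert j s hj ih =>
      rw [Finset.prod_insert hj, Finset.sum_insert hj]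
      convert hasWeight_mul x L (hpow j (α j)) ih using 1
      by_cases h : i = j
      · subst h; simp [hj]
      · simp [h]
  simpa [mon] using this Finset.univ

include hx hL in
theorem euler_iterate_mon (i : Fin N) (α : Fin N → ℕ) (r : ℕ) :
    (euler x L i)^[r] (mon x α) - (α i : k) ^ r • mon x α ∈ aug k A ^ ((∑ j, α j) + 1) := by
  induction r with
  | zero => simp
  | succ r ih =>
    rw [Function.iterate_succ_apply', show euler x L i ((euler x L i)^[r] (mon x α)) - (α i : k) ^ (r + 1) • mon x α =
      euler x L i ((euler x L i)^[r] (mon x α) - (α i : k) ^ r • mon x α) +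
        (α i : k) ^ r • (euler x L i (mon x α) - (α i : k) • mon x α) by
      rw [map_sub, map_smul, smul_sub, smul_smul, pow_succ]; abel]
    refine Ideal.add_mem _ (euler_mem x L hx i _ _ ih) ?_
    rw [Algebra.smul_def]
    exact Ideal.mul_mem_left _ _ (hasWeight_mon x L hx hL i α).2

/-- Monomials of a given degree avoiding some coordinates, modulo higher order. -/
noncomputable def lev (n : ℕ) (J : Finset (Fin N)) : Submodule k A :=
  Submodule.span k {a | ∃ α : Fin N → ℕ, ∑ j, α j = n ∧ (∀ j ∈ J, α j = 0) ∧ mon x α = a} ⊔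
    (aug k A ^ (n + 1)).restrictScalars k

include hx in
theorem pow_le_lev (hy : ∀ y ∈ aug k A, y - ∑ i, dlin (L i) y • x i ∈ aug k A ^ 2) :
    ∀ (n : ℕ) (a : A), a ∈ aug k A ^ n → a ∈ lev (k := k) x n ∅ := by
  classical
  have hstep : ∀ (n : ℕ) (i : Fin N) (a : A), a ∈ lev (k := k) x n ∅ → a * x i ∈ lev (k := k) x (n + 1) ∅ := by
    intro n i a ha
    refine (sup_le ?_ ?_ : lev (k := k) x n ∅ ≤ (lev (k := k) x (n + 1) ∅).comap (LinearMap.mulRight k (x i))) ha
    · rw [Submodule.span_le]
      rintro _ ⟨α, hα, -, rfl⟩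
      refine Submodule.mem_sup_left (Submodule.subset_span ⟨α + Pi.single i 1, ?_, by simp, ?_⟩)
      · simp [Finset.sum_add_distrib, hα]
      · have h1 : ∏ j, x j ^ (Pi.single i 1 : Fin N → ℕ) j = x i := by
          rw [Finset.prod_eq_single i (fun j _ hj => by simp [hj]) (by simp)]
          simp
        simp only [mon, Pi.add_apply, pow_add, Finset.prod_mul_distrib, h1, LinearMap.mulRight_apply]
    · intro b hb
      refine Submodule.mem_sup_right ?_
      show b * x i ∈ aug k A ^ (n + 1 + 1)
      rw [pow_succ]
      exact Ideal.mul_mem_mul hb (hx i)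
  intro n
  induction n with
  | zero =>
    intro a _
    rw [show a = ε a • (1 : A) + (a - algebraMap k A (ε a)) by rw [Algebra.algebraMap_eq_smul_one]; abel]
    refine add_mem (Submodule.mem_sup_left (Submodule.smul_mem _ _ (Submodule.subset_span ⟨0, by simp, by simp,
      by simp [mon]⟩))) (Submodule.mem_sup_right ?_)
    show _ ∈ aug k A ^ (0 + 1)
    rw [zero_add, pow_one]
    exact ComodLib.sub_counit_mem a
  | succ n ih =>
    intro a ha
    rw [pow_succ] at ha
    induction ha using Submodule.mul_induction_on' with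
    | mem_mul_mem b hb y hym =>
      rw [show b * y = (∑ i, dlin (L i) y • (b * x i)) + b * (y - ∑ i, dlin (L i) y • x i) by
        simp only [mul_sub, Finset.mul_sum, mul_smul_comm]; abel]
      refine add_mem (Submodule.sum_mem _ fun i _ => Submodule.smul_mem _ _ (hstep n i b (ih b hb)))
        (Submodule.mem_sup_right ?_)
      show b * _ ∈ aug k A ^ (n + 1 + 1)
      rw [show n + 1 + 1 = n + 2 by omega, pow_add]
      exact Ideal.mul_mem_mul hb (hy y hym)
    | add b _ c _ hb hc => exact add_mem hb hc

include hx hL in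
theorem lev_step {p : ℕ} [Fact p.Prime] [CharP k p] (hp : ∀ a ∈ aug k A, a ^ p = 0) (n : ℕ) (J : Finset (Fin N))
    (i : Fin N) {z : A} (hz : z ∈ lev (k := k) x n J) (hEz : euler x L i z = 0) :
    z ∈ lev (k := k) x n (insert i J) := by
  classical
  have hp1 : 0 < p - 1 := by have := (Fact.out : p.Prime).two_le; omega
  let E := euler x L i
  let T : A →ₗ[k] A := LinearMap.id - E ^ (p - 1)
  have hT : ∀ a, T a = a - E^[p - 1] a := fun a => by simp [T, Module.End.pow_apply]
  have hz0 : E^[p - 1] z = 0 := by
    obtain ⟨r, hr⟩ := Nat.exists_eq_succ_of_ne_zero hp1.ne'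
    rw [hr, Function.iterate_succ_apply, show E z = 0 from hEz, iterate_map_zero]
  have main : lev (k := k) x n J ≤ (lev (k := k) x n (insert i J)).comap T := by
    refine sup_le (Submodule.span_le.mpr ?_) fun a ha => Submodule.mem_sup_right ?_
    · rintro _ ⟨α, hα, hJ, rfl⟩
      rw [SetLike.mem_coe, Submodule.mem_comap]
      have hw := euler_iterate_mon x L hx hL i α (p - 1)
      rw [hα] at hw
      by_cases h0 : α i = 0
      · rw [h0, Nat.cast_zero, zero_pow hp1.ne', zero_smul, sub_zero] at hw
        rw [hT]
        refine sub_mem (Submodule.mem_sup_left (Submodule.subset_span ⟨α, hα, ?_, rfl⟩)) (Submodule.mem_sup_right hw)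
        intro j hj
        rcases Finset.mem_insert.mp hj with rfl | hj
        exacts [h0, hJ j hj]
      by_cases hd : p ∣ α i
      · have : mon x α = 0 := by
          obtain ⟨c, hc⟩ := hd
          refine Finset.prod_eq_zero (Finset.mem_univ i) ?_
          rw [hc, pow_mul, hp _ (hx i), zero_pow]
          exact fun h => h0 (by rw [hc, h, mul_zero])
        rw [this, map_zero]
        exact zero_mem _
      · have h1 : (α i : k) ^ (p - 1) = 1 := by
          have h := ZMod.pow_card_sub_one_eq_one (p := p) (a := (α i : ZMod p))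
            (by rwa [Ne, ZMod.natCast_eq_zero_iff])
          simpa using congrArg (ZMod.castHom (dvd_refl p) k) h
        rw [h1, one_smul] at hw
        rw [hT, ← neg_sub]
        exact neg_mem (Submodule.mem_sup_right hw)
    · rw [Submodule.restrictScalars_mem] at ha
      show T a ∈ aug k A ^ (n + 1)
      rw [hT]
      refine sub_mem ha ?_
      clear hz0 hp1
      induction p - 1 with
      | zero => exact ha
      | succ r ih => rw [Function.iterate_succ_apply']; exact euler_mem x L hx i _ _ ih
  have := main hz
  rw [Submodule.mem_comap, hT, hz0, sub_zero] at this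
  exact this

end Euler

variable [Algebra.FiniteType k A] (p : ℕ) [Fact p.Prime] [CharP k p]

/-- Functions killed by the Lie algebra of a group of height one are constant. -/
theorem eq_algebraMap_of_killed (hp : ∀ a ∈ aug k A, a ^ p = 0) (a : A) (ha : ∀ D : Lie k A, lieOp D a = 0) :
    a = algebraMap k A (ε a) := by
  classical
  obtain ⟨N, x, L, hx, hL, hy⟩ := exists_dual_basis (k := k) (A := A)
  let z := a - algebraMap k A (ε a)
  have hzE : ∀ i, euler x L i z = 0 := fun i => by
    rw [euler_apply, map_sub, ha, ComodLib.lieOp_algebraMap, sub_zero, mul_zero]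
  have key : ∀ n : ℕ, z ∈ aug k A ^ (n + 1) := by
    intro n
    induction n with
    | zero => rw [zero_add, pow_one]; exact ComodLib.sub_counit_mem a
    | succ n ih =>
      have hJ : ∀ J : Finset (Fin N), z ∈ lev (k := k) x (n + 1) J := by
        intro J
        induction J using Finset.induction_on with
        | empty => exact pow_le_lev x L hx hy _ _ ih
        | insert i J _ hJ => exact lev_step x L hx hL hp _ J i hJ (hzE i)
      refine (sup_le (Submodule.span_le.mpr ?_) le_rfl :
        lev (k := k) x (n + 1) Finset.univ ≤ (aug k A ^ (n + 1 + 1)).restrictScalars k) (hJ Finset.univ)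
      rintro _ ⟨α, hα, h0, rfl⟩
      simp [h0] at hα
  haveI : IsNoetherianRing A := Algebra.FiniteType.isNoetherianRing k A
  obtain ⟨M, hM⟩ := Ideal.exists_pow_le_of_le_radical_of_fg
    (fun a ha => ⟨p, by simpa using hp a ha⟩ : aug k A ≤ (⊥ : Ideal A).radical) (IsNoetherian.noetherian _)
  have := hM (Ideal.pow_le_pow_right (Nat.le_succ M) (key M))
  rwa [Ideal.mem_bot, sub_eq_zero] at this

/-- A group of height one whose Lie algebra is nilpotent is unipotent. -/
theorem isUnipotent_heightOne (hp : ∀ a ∈ aug k A, a ^ p = 0)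
    (hnil : ∀ D : Lie k A, ∃ n : ℕ, convPow (dlin D) n = 0) : HopfRep.IsUnipotent k A := by
  intro V _ _ _ _ _
  obtain ⟨v, hv0, hv⟩ := exists_killed hnil V
  refine (Submodule.ne_bot_iff _).mpr ⟨v, ?_, hv0⟩
  have h1 : ∀ f : V →ₗ[k] k, TakeuchiLib.coeffMap (A := A) f v = algebraMap k A (f v) := by
    intro f
    have h : ∀ D : Lie k A, lieOp D (TakeuchiLib.coeffMap (A := A) f v) = 0 := fun D => by
      show lieOp D (ComodLib.coefFun (C := A) f v) = 0
      rw [ComodLib.lieOp_coefFun, hv, map_zero]
    refine (eq_algebraMap_of_killed p hp _ h).trans ?_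
    exact congrArg _ (TakeuchiLib.counit_coeffMap f v)
  show HopfRep.Comod.coact (k := k) (A := A) v = v ⊗ₜ[k] (1 : A)
  rw [TakeuchiLib.coact_eq_sum (Module.finBasis k V) v]
  simp only [h1, Algebra.algebraMap_eq_smul_one, ← TensorProduct.smul_tmul, ← TensorProduct.sum_tmul,
    Module.Basis.coord_apply, Module.Basis.sum_repr]

end Groth.Agent.HeightOneLib
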